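import Cfsg.Agent.Lib.Helper23.G168.Basic
import Cfsg.Agent.Lib.Helper23.ConjClass
import Cfsg.Agent.Lib.Helper66.DihedralIso

namespace Cfsg.Agent.Lib.Helper23.G168

open Cfsg.Agent.Lib.Helper23

variable {G : Type*} [Group G] [Finite G] [IsSimpleGroup G]

attribute [local instance] fact2 fact3 fact7

theorem normalizer_sylow2 (h : Nat.card G = 168) (T : Sylow 2 G) :
    Subgroup.normalizer ((T : Subgroup G) : Set G) = T := by
  have hc := card_normalizer_mul_card_sylow 2 T
  rw [n2 h, h] at hc
  have h8 : Nat.card ↥(Subgroup.normalizer ((T : Subgroup G) : Set G)) = 8 := by omega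
  exact (Subgroup.eq_of_le_of_card_ge Subgroup.le_normalizer
    (by rw [h8, card_sylow2 h])).symm

theorem orderOf_mem_sylow2 (h : Nat.card G = 168) (T : Sylow 2 G) (g : G)
    (hg : g ∈ (T : Subgroup G)) : orderOf g = 1 ∨ orderOf g = 2 ∨ orderOf g = 4 := by
  have hd : orderOf g ∣ 8 := by
    rw [← card_sylow2 h T]
    have := orderOf_dvd_natCard (⟨g, hg⟩ : ↥(T : Subgroup G))
    rwa [Subgroup.orderOf_mk] at this
  rcases orderOf_mem h g with h1 | h1 | h1 | h1 | h1 <;> rw [h1] at hd ⊢ <;> omega

theorem exists_sylow2_mem (g : G) (hg : orderOf g = 1 ∨ orderOf g = 2 ∨ orderOf g = 4) :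
    ∃ T : Sylow 2 G, g ∈ (T : Subgroup G) := by
  have hpg : IsPGroup 2 ↥(Subgroup.zpowers g) := by
    rcases hg with hg | hg | hg
    · exact IsPGroup.of_card (n := 0) (by rw [Nat.card_zpowers, hg]; norm_num)
    · exact IsPGroup.of_card (n := 1) (by rw [Nat.card_zpowers, hg]; norm_num)
    · exact IsPGroup.of_card (n := 2) (by rw [Nat.card_zpowers, hg]; norm_num)
  obtain ⟨T', hT'⟩ := hpg.exists_le_sylow
  exact ⟨T', hT' (Subgroup.mem_zpowers g)⟩

/-- the centralizer of a non-trivial 2-element is a 2-group. -/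
theorem card_centralizer_dvd_eight (h : Nat.card G = 168) (z : G)
    (hz : orderOf z = 2 ∨ orderOf z = 4) :
    Nat.card ↥(Subgroup.centralizer ({z} : Set G)) ∣ 8 := by
  have hdvd : Nat.card ↥(Subgroup.centralizer ({z} : Set G)) ∣ 168 :=
    h ▸ Subgroup.card_subgroup_dvd_card _
  have key : ∀ p : ℕ, p.Prime → (p = 3 ∨ p = 7) →
      ¬ p ∣ Nat.card ↥(Subgroup.centralizer ({z} : Set G)) := by
    intro p hp hp37 hpd
    haveI := Fact.mk hp
    obtain ⟨⟨g, hgC⟩, hg⟩ :=
      exists_prime_orderOf_dvd_card' (G := ↥(Subgroup.centralizer ({z} : Set G))) p hpd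
    rw [Subgroup.orderOf_mk] at hg
    have hcomm : g * z = z * g := (Subgroup.mem_centralizer_singleton_iff.mp hgC)
    have hco : (orderOf g).Coprime (orderOf z) := by
      rw [hg]
      rcases hp37 with rfl | rfl <;> rcases hz with hz | hz <;> rw [hz] <;> norm_num
    have hmul := orderOf_mul_of_commute_coprime g z hcomm hco
    rw [hg] at hmul
    rcases hp37 with rfl | rfl <;> rcases hz with hz | hz <;> rw [hz] at hmul <;>
      rcases orderOf_mem h (g * z) with h1 | h1 | h1 | h1 | h1 <;> omega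
  have h7 := key 7 (by norm_num) (Or.inr rfl)
  have h3 := key 3 (by norm_num) (Or.inl rfl)
  have hc7 : Nat.Coprime (Nat.card ↥(Subgroup.centralizer ({z} : Set G))) 7 :=
    (Nat.Coprime.symm ((Nat.Prime.coprime_iff_not_dvd (by norm_num)).mpr h7))
  have hc3 : Nat.Coprime (Nat.card ↥(Subgroup.centralizer ({z} : Set G))) 3 :=
    (Nat.Coprime.symm ((Nat.Prime.coprime_iff_not_dvd (by norm_num)).mpr h3))
  have h1 : Nat.card ↥(Subgroup.centralizer ({z} : Set G)) ∣ 24 * 7 := by norm_num; exact hdvd
  have h2 : Nat.card ↥(Subgroup.centralizer ({z} : Set G)) ∣ 24 := hc7.dvd_of_dvd_mul_right h1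
  have h3' : Nat.card ↥(Subgroup.centralizer ({z} : Set G)) ∣ 8 * 3 := by norm_num; exact h2
  exact hc3.dvd_of_dvd_mul_right h3'

/-- an element of a Sylow 2-subgroup `T` which is central in `T` has centralizer `T`. -/
theorem centralizer_eq_sylow2 (h : Nat.card G = 168) (T : Sylow 2 G) (z : G)
    (hzT : z ∈ (T : Subgroup G)) (hz1 : z ≠ 1) (hc : ∀ t ∈ (T : Subgroup G), t * z = z * t) :
    Subgroup.centralizer ({z} : Set G) = T := by
  have hz : orderOf z = 2 ∨ orderOf z = 4 := by
    rcases orderOf_mem_sylow2 h T z hzT with h1 | h1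
    · exact absurd (orderOf_eq_one_iff.mp h1) hz1
    · exact h1
  have hle : (T : Subgroup G) ≤ Subgroup.centralizer ({z} : Set G) := by
    intro t ht
    rw [Subgroup.mem_centralizer_singleton_iff]
    exact hc t ht
  have hd := card_centralizer_dvd_eight h z hz
  exact (Subgroup.eq_of_le_of_card_ge hle
    (by rw [card_sylow2 h]; exact Nat.le_of_dvd (by norm_num) hd)).symm


/-- the Sylow 2-subgroups cannot intersect pairwise trivially. -/
theorem false_of_TI (h : Nat.card G = 168)
    (hTI : ∀ T1 T2 : Sylow 2 G, ∀ g : G, g ≠ 1 → g ∈ (T1 : Subgroup G) →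
      g ∈ (T2 : Subgroup G) → T1 = T2) : False := by
  classical
  have := Fintype.ofFinite G
  have : Fintype (Sylow 2 G) := Fintype.ofFinite _
  have h64 := card_two_elements h
  rw [Nat.card_eq_fintype_card, Fintype.card_subtype] at h64
  have hsub : (Finset.univ.biUnion (fun T : Sylow 2 G =>
      (Finset.univ.filter (fun g : G => g ∈ (T : Subgroup G))).erase 1)) ⊆
      Finset.univ.filter (fun g : G => orderOf g = 1 ∨ orderOf g = 2 ∨ orderOf g = 4) := by
    intro g hg
    simp only [Finset.mem_biUnion, Finset.mem_univ, true_and, Finset.mem_erase,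
      Finset.mem_filter] at hg ⊢
    obtain ⟨T, _, hgT⟩ := hg
    exact orderOf_mem_sylow2 h T g hgT
  have hcard := Finset.card_le_card hsub
  rw [h64, Finset.card_biUnion] at hcard
  · have h7 : ∀ T : Sylow 2 G,
        ((Finset.univ.filter (fun g : G => g ∈ (T : Subgroup G))).erase 1).card = 7 := by
      intro T
      rw [Finset.card_erase_of_mem (by simp)]
      have := card_sylow2 h T
      rw [Nat.card_eq_fintype_card, Fintype.card_subtype] at this
      rw [this]
    simp_rw [h7] at hcard
    rw [Finset.sum_const, Finset.card_univ, ← Nat.card_eq_fintype_card, n2 h] at hcard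
    simp at hcard
  · intro T1 _ T2 _ hne
    show Disjoint _ _
    rw [Finset.disjoint_left]
    intro g hg1 hg2
    simp only [Finset.mem_erase, Finset.mem_filter, Finset.mem_univ, true_and] at hg1 hg2
    exact hne (hTI T1 T2 g hg1.1 hg1.2 hg2.2)

omit [Finite G] [IsSimpleGroup G] in
theorem mem_smul_sylow_iff (c : G) (T : Sylow 2 G) (g : G) :
    g ∈ ((c • T : Sylow 2 G) : Subgroup G) ↔ c⁻¹ * g * c ∈ (T : Subgroup G) := by
  rw [Sylow.coe_subgroup_smul, Subgroup.mem_pointwise_smul_iff_inv_smul_mem, MulAut.smul_def,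
    MulAut.conj_inv_apply]

/-- a Sylow 2-subgroup contains a non-central involution. -/
theorem exists_noncentral_involution (h : Nat.card G = 168) (T : Sylow 2 G) :
    ∃ w ∈ (T : Subgroup G), orderOf w = 2 ∧ ∃ t ∈ (T : Subgroup G), t * w ≠ w * t := by
  by_contra hcon
  push Not at hcon
  -- transfer to all Sylow 2-subgroups
  have hall : ∀ T' : Sylow 2 G, ∀ w ∈ (T' : Subgroup G), orderOf w = 2 →
      ∀ t ∈ (T' : Subgroup G), t * w = w * t := by
    intro T' w hw hw2 t ht
    obtain ⟨c, rfl⟩ := MulAction.exists_smul_eq G T T'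
    rw [mem_smul_sylow_iff] at hw ht
    have h2 : orderOf (c⁻¹ * w * c) = 2 := by
      rw [← hw2]
      have := (SemiconjBy.conj_mk c⁻¹ w).orderOf_eq c⁻¹
      rw [inv_inv] at this
      exact this.symm
    have := hcon _ hw h2 _ ht
    have h3 : c⁻¹ * (t * w) * c = c⁻¹ * (w * t) * c := by
      calc c⁻¹ * (t * w) * c = (c⁻¹ * t * c) * (c⁻¹ * w * c) := by group
        _ = (c⁻¹ * w * c) * (c⁻¹ * t * c) := this
        _ = c⁻¹ * (w * t) * c := by group
    exact mul_left_cancel (mul_right_cancel h3)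
  apply false_of_TI h
  intro T1 T2 g hg1 hgT1 hgT2
  -- an involution in the intersection
  have hw : ∃ w : G, orderOf w = 2 ∧ w ∈ (T1 : Subgroup G) ∧ w ∈ (T2 : Subgroup G) := by
    rcases orderOf_mem_sylow2 h T1 g hgT1 with h1 | h1 | h1
    · exact absurd (orderOf_eq_one_iff.mp h1) hg1
    · exact ⟨g, h1, hgT1, hgT2⟩
    · refine ⟨g ^ 2, ?_, Subgroup.pow_mem _ hgT1 2, Subgroup.pow_mem _ hgT2 2⟩
      rw [orderOf_pow' g (by norm_num), h1]
      rfl
  obtain ⟨w, hw2, hwT1, hwT2⟩ := hw
  have hw1 : w ≠ 1 := by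
    intro h1
    rw [h1, orderOf_one] at hw2
    omega
  have e1 := centralizer_eq_sylow2 h T1 w hwT1 hw1 (hall T1 w hwT1 hw2)
  have e2 := centralizer_eq_sylow2 h T2 w hwT2 hw1 (hall T2 w hwT2 hw2)
  exact Sylow.ext (e1.symm.trans e2)


/-- in a Sylow 2-subgroup, an element not commuting with an element `t` of order 4 inverts it. -/
theorem conj_eq_inv_of_order_four (h : Nat.card G = 168) (T : Sylow 2 G) (w t : G)
    (hw : w ∈ (T : Subgroup G)) (ht : t ∈ (T : Subgroup G)) (ht4 : orderOf t = 4)
    (hne : t * w ≠ w * t) : w * t * w⁻¹ = t⁻¹ := by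
  classical
  have hKle : Subgroup.zpowers t ≤ (T : Subgroup G) := by
    rw [Subgroup.zpowers_le]; exact ht
  have hcardK : Nat.card ↥((Subgroup.zpowers t).subgroupOf (T : Subgroup G)) = 4 := by
    rw [Nat.card_congr (Subgroup.subgroupOfEquivOfLe hKle).toEquiv, Nat.card_zpowers, ht4]
  have hidx : ((Subgroup.zpowers t).subgroupOf (T : Subgroup G)).index = 2 := by
    have := Subgroup.card_mul_index ((Subgroup.zpowers t).subgroupOf (T : Subgroup G))
    rw [hcardK, card_sylow2 h] at this
    omega
  have hn : ((Subgroup.zpowers t).subgroupOf (T : Subgroup G)).Normal :=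
    Subgroup.normal_of_index_eq_two hidx
  have hmem : (⟨t, ht⟩ : ↥(T : Subgroup G)) ∈ (Subgroup.zpowers t).subgroupOf (T : Subgroup G) := by
    rw [Subgroup.mem_subgroupOf]; exact Subgroup.mem_zpowers t
  have hconj := hn.conj_mem _ hmem ⟨w, hw⟩
  rw [Subgroup.mem_subgroupOf] at hconj
  have hconj' : w * t * w⁻¹ ∈ Subgroup.zpowers t := hconj
  rw [mem_zpowers_iff_mem_range_orderOf, ht4] at hconj'
  simp only [Finset.mem_image, Finset.mem_range] at hconj'
  obtain ⟨k, hk, hk'⟩ := hconj'
  have ho : orderOf (w * t * w⁻¹) = 4 := by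
    rw [← ht4]
    exact ((SemiconjBy.conj_mk w t).orderOf_eq w).symm
  have ht4' : t ^ 4 = 1 := by rw [← ht4]; exact pow_orderOf_eq_one t
  interval_cases k
  · rw [pow_zero] at hk'
    rw [← hk', orderOf_one] at ho
    omega
  · rw [pow_one] at hk'
    exfalso
    apply hne
    calc t * w = (w * t * w⁻¹) * w := by rw [← hk']
      _ = w * t := by group
  · exfalso
    have : orderOf (t ^ 2) ∣ 2 := by
      apply orderOf_dvd_of_pow_eq_one
      rw [← pow_mul]; exact ht4'
    rw [hk', ho] at this
    omega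
  · rw [← hk']
    apply eq_inv_of_mul_eq_one_left
    rw [← pow_succ]; exact ht4'

/-- two involutions of a Sylow 2-subgroup whose product has order 4. -/
theorem exists_dihedral_generators (h : Nat.card G = 168) (T : Sylow 2 G) :
    ∃ x y : G, x ∈ (T : Subgroup G) ∧ y ∈ (T : Subgroup G) ∧ orderOf x = 2 ∧ orderOf y = 2 ∧
      orderOf (x * y) = 4 := by
  obtain ⟨w, hwT, hw2, t, htT, hne⟩ := exists_noncentral_involution h T
  have hww : w * w = 1 := by
    have := pow_orderOf_eq_one w
    rw [hw2, pow_two] at this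
    exact this
  rcases orderOf_mem_sylow2 h T t htT with h1 | h1 | h1
  · exfalso
    apply hne
    rw [orderOf_eq_one_iff.mp h1]
    simp
  · -- two non-commuting involutions
    refine ⟨w, t, hwT, htT, hw2, h1, ?_⟩
    have htt : t * t = 1 := by
      have := pow_orderOf_eq_one t
      rw [h1, pow_two] at this
      exact this
    rcases orderOf_mem_sylow2 h T (w * t) (Subgroup.mul_mem _ hwT htT) with h2 | h2 | h2
    · exfalso
      apply hne
      have h3 : w * t = 1 := orderOf_eq_one_iff.mp h2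
      have h4 : w = t := by
        calc w = w * (t * t) := by rw [htt, mul_one]
          _ = (w * t) * t := by group
          _ = t := by rw [h3, one_mul]
      rw [h4]
    · exfalso
      apply hne
      have h3 : (w * t) * (w * t) = 1 := by
        have := pow_orderOf_eq_one (w * t)
        rw [h2, pow_two] at this
        exact this
      calc t * w = (w * w) * (t * w) * (t * t) := by rw [hww, htt]; group
        _ = w * ((w * t) * (w * t)) * t := by group
        _ = w * t := by rw [h3]; group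
    · exact h2
  · -- `t` of order 4 is inverted by `w`
    have hinv := conj_eq_inv_of_order_four h T w t hwT htT h1 hne
    have hy : (w * t) * (w * t) = 1 := by
      calc (w * t) * (w * t) = (w * t * w⁻¹) * (w * w) * t := by group
        _ = 1 := by rw [hinv, hww]; group
    have hy1 : w * t ≠ 1 := by
      intro h3
      apply hne
      have : t = w⁻¹ := eq_inv_of_mul_eq_one_right h3
      rw [this]; group
    refine ⟨w, w * t, hwT, Subgroup.mul_mem _ hwT htT, hw2, ?_, ?_⟩
    · exact orderOf_eq_prime (by rw [pow_two]; exact hy) hy1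
    · have : w * (w * t) = t := by rw [← mul_assoc, hww, one_mul]
      rw [this, h1]

theorem closure_dihedral_generators (h : Nat.card G = 168) (T : Sylow 2 G) (x y : G)
    (hx : x ∈ (T : Subgroup G)) (hy : y ∈ (T : Subgroup G)) (hx2 : orderOf x = 2)
    (hy2 : orderOf y = 2) (hxy : orderOf (x * y) = 4) :
    Subgroup.closure ({x, y} : Set G) = (T : Subgroup G) := by
  apply Subgroup.eq_of_le_of_card_ge
  · rw [Subgroup.closure_le]
    intro g hg
    rcases hg with rfl | rfl
    · exact hx
    · exact hy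
  · rw [Cfsg.Agent.Lib.Helper66.card_closure_pair hx2 hy2, hxy, card_sylow2 h]

theorem sylow2_dihedral (h : Nat.card G = 168) (T : Sylow 2 G) :
    Nonempty (↥(T : Subgroup G) ≃* DihedralGroup 4) := by
  obtain ⟨x, y, hx, hy, hx2, hy2, hxy⟩ := exists_dihedral_generators h T
  have hcl := closure_dihedral_generators h T x y hx hy hx2 hy2 hxy
  obtain ⟨e⟩ := Cfsg.Agent.Lib.Helper66.nonempty_closure_pair_equiv_dihedral hx2 hy2
  rw [hxy] at e
  exact ⟨(MulEquiv.subgroupCongr hcl).symm.trans e⟩

end Cfsg.Agent.Lib.Helper23.G168
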