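import Cfsg.Agent.Lib.Helper23.SylowPrime2
import Cfsg.Agent.Lib.Helper23.Burnside

namespace Cfsg.Agent.Lib.Helper23.G168

open Cfsg.Agent.Lib.Helper23

variable {G : Type*} [Group G] [Finite G] [IsSimpleGroup G]

theorem fact2 : Fact (Nat.Prime 2) := ⟨Nat.prime_two⟩
theorem fact3 : Fact (Nat.Prime 3) := ⟨Nat.prime_three⟩
theorem fact7 : Fact (Nat.Prime 7) := ⟨by norm_num⟩

attribute [local instance] fact2 fact3 fact7

theorem not_comm (h : Nat.card G = 168) : ¬ IsMulCommutative G :=
  not_isMulCommutative_of_simple (by rw [h]; norm_num)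

theorem seven_le_index (h : Nat.card G = 168) (H : Subgroup G) (hH : H ≠ ⊤) : 7 ≤ H.index :=
  prime_le_index (not_comm h) 7 (by norm_num) (by rw [h]; norm_num) H hH

theorem card_sylow7 (h : Nat.card G = 168) (P : Sylow 7 G) :
    Nat.card ↥(P : Subgroup G) = 7 := by
  simpa using sylow_card_of_card_eq 7 1 24 (by rw [h]; norm_num) (by norm_num) P

theorem card_sylow3 (h : Nat.card G = 168) (P : Sylow 3 G) :
    Nat.card ↥(P : Subgroup G) = 3 := by
  simpa using sylow_card_of_card_eq 3 1 56 (by rw [h]; norm_num) (by norm_num) P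

theorem card_sylow2 (h : Nat.card G = 168) (P : Sylow 2 G) :
    Nat.card ↥(P : Subgroup G) = 8 := by
  simpa using sylow_card_of_card_eq 2 3 21 (by rw [h]; norm_num) (by norm_num) P

/-- the number of Sylow subgroups is at least 7 (for a Sylow subgroup that is neither trivial nor
the whole group). -/
theorem seven_le_card_sylow (h : Nat.card G = 168) (p : ℕ) [Fact p.Prime] (P : Sylow p G)
    (h1 : Nat.card ↥(P : Subgroup G) ≠ 1) (h2 : Nat.card ↥(P : Subgroup G) ≠ Nat.card G) :
    7 ≤ Nat.card (Sylow p G) := by
  rw [card_sylow_eq_index_normalizer' p P]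
  apply seven_le_index h
  intro htop
  have hn : (P : Subgroup G).Normal := Subgroup.normalizer_eq_top_iff.mp htop
  rcases hn.eq_bot_or_eq_top with hb | ht
  · apply h1; rw [hb]; simp
  · apply h2; rw [ht]; simp

theorem n7 (h : Nat.card G = 168) : Nat.card (Sylow 7 G) = 8 := by
  have hd := card_sylow_dvd_of_card_eq (G := G) 7 1 24 (by rw [h]; norm_num) (by norm_num)
  have hmod : Nat.card (Sylow 7 G) % 7 = 1 := card_sylow_modEq_one 7 G
  obtain ⟨P⟩ : Nonempty (Sylow 7 G) := inferInstance
  have hge := seven_le_card_sylow h 7 P (by rw [card_sylow7 h]; norm_num)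
    (by rw [card_sylow7 h, h]; norm_num)
  have hle := Nat.le_of_dvd (by norm_num) hd
  generalize Nat.card (Sylow 7 G) = n at *
  interval_cases n <;> omega

theorem card_normalizer7 (h : Nat.card G = 168) (P : Sylow 7 G) :
    Nat.card ↥(Subgroup.normalizer ((P : Subgroup G) : Set G)) = 7 * 3 := by
  have := card_normalizer_mul_card_sylow 7 P
  rw [n7 h, h] at this
  omega

theorem not_le7 (h : Nat.card G = 168) (P : Sylow 7 G) :
    ¬ Subgroup.normalizer ((P : Subgroup G) : Set G) ≤
      Subgroup.centralizer ((P : Subgroup G) : Set G) := fun hle =>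
  false_of_normalizer_le_centralizer (not_comm h) 7 (by rw [h]; norm_num) P hle

theorem card_order7 (h : Nat.card G = 168) : Nat.card {g : G // orderOf g = 7} = 48 := by
  rw [card_orderOf_eq_prime 7 (card_sylow7 h), n7 h]

theorem n3 (h : Nat.card G = 168) : Nat.card (Sylow 3 G) = 28 := by
  classical
  have hd := card_sylow_dvd_of_card_eq (G := G) 3 1 56 (by rw [h]; norm_num) (by norm_num)
  have hmod : Nat.card (Sylow 3 G) % 3 = 1 := card_sylow_modEq_one 3 G
  obtain ⟨Q⟩ : Nonempty (Sylow 3 G) := inferInstance
  have hge := seven_le_card_sylow h 3 Q (by rw [card_sylow3 h]; norm_num)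
    (by rw [card_sylow3 h, h]; norm_num)
  have hle := Nat.le_of_dvd (by norm_num) hd
  have hcases : Nat.card (Sylow 3 G) = 7 ∨ Nat.card (Sylow 3 G) = 28 := by
    generalize Nat.card (Sylow 3 G) = n at *
    interval_cases n <;> omega
  rcases hcases with h7 | h28
  swap
  · exact h28
  exfalso
  -- all elements of order 3 lie in the normalizer of a Sylow 7-subgroup
  obtain ⟨P⟩ : Nonempty (Sylow 7 G) := inferInstance
  have h3 : Nat.card {g : G // orderOf g = 3} = 14 := by
    rw [card_orderOf_eq_prime 3 (card_sylow3 h), h7]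
  have := Fintype.ofFinite G
  set N := Subgroup.normalizer ((P : Subgroup G) : Set G) with hN
  have hsub : (Finset.univ.filter (fun g : G => g ∈ N)) \
      (Finset.univ.filter (fun g : G => g ∈ (P : Subgroup G))) ⊆
      Finset.univ.filter (fun g : G => orderOf g = 3) := by
    intro g hg
    simp only [Finset.mem_sdiff, Finset.mem_filter, Finset.mem_univ, true_and] at hg ⊢
    exact (orderOf_eq_of_mem_normalizer_notMem 7 3 (by norm_num) P (card_sylow7 h P)
      (card_normalizer7 h P) (not_le7 h P) g hg.1 hg.2).1
  have hcard1 : ((Finset.univ.filter (fun g : G => g ∈ N)) \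
      (Finset.univ.filter (fun g : G => g ∈ (P : Subgroup G)))).card = 14 := by
    rw [Finset.card_sdiff_of_subset]
    · have h1 : (Finset.univ.filter (fun g : G => g ∈ N)).card = 7 * 3 := by
        have := card_normalizer7 h P
        rw [Nat.card_eq_fintype_card, Fintype.card_subtype] at this
        exact this
      have h2 : (Finset.univ.filter (fun g : G => g ∈ (P : Subgroup G))).card = 7 := by
        have := card_sylow7 h P
        rw [Nat.card_eq_fintype_card, Fintype.card_subtype] at this
        exact this
      rw [h1, h2]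
    · intro g hg
      simp only [Finset.mem_filter, Finset.mem_univ, true_and] at hg ⊢
      exact Subgroup.le_normalizer hg
  have hcard2 : (Finset.univ.filter (fun g : G => orderOf g = 3)).card = 14 := by
    rw [Nat.card_eq_fintype_card, Fintype.card_subtype] at h3
    exact h3
  have heq := Finset.eq_of_subset_of_card_le hsub (by rw [hcard1, hcard2])
  have hall : ∀ g : G, orderOf g = 3 → g ∈ N := by
    intro g hg
    have : g ∈ Finset.univ.filter (fun g : G => orderOf g = 3) := by simp [hg]
    rw [← heq] at this
    simp only [Finset.mem_sdiff, Finset.mem_filter, Finset.mem_univ, true_and] at this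
    exact this.1
  -- the normal closure of the elements of order 3
  set K := Subgroup.normalClosure {g : G | orderOf g = 3} with hK
  have hKN : K ≤ N := by
    rw [hK, Subgroup.normalClosure, Subgroup.closure_le]
    intro y hy
    obtain ⟨x, hx, hxy⟩ := Group.mem_conjugatesOfSet_iff.mp hy
    apply hall
    obtain ⟨c, hc⟩ := isConj_iff.mp hxy
    rw [← hc]
    have hx3 : orderOf x = 3 := hx
    rw [← hx3]
    exact ((SemiconjBy.conj_mk c x).orderOf_eq c).symm
  have hKnormal : K.Normal := Subgroup.normalClosure_normal
  rcases hKnormal.eq_bot_or_eq_top with hb | ht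
  · -- K contains an element of order 3
    obtain ⟨x, hx⟩ := exists_prime_orderOf_dvd_card' (G := G) 3 (by rw [h]; norm_num)
    have hxK : x ∈ K := Subgroup.subset_normalClosure hx
    rw [hb, Subgroup.mem_bot] at hxK
    rw [hxK, orderOf_one] at hx
    omega
  · rw [ht] at hKN
    have hNtop : N = ⊤ := top_le_iff.mp hKN
    have h21 := card_normalizer7 h P
    rw [← hN, hNtop] at h21
    have htop : Nat.card (⊤ : Subgroup G) = Nat.card G := Subgroup.card_top
    omega

theorem card_normalizer3 (h : Nat.card G = 168) (P : Sylow 3 G) :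
    Nat.card ↥(Subgroup.normalizer ((P : Subgroup G) : Set G)) = 3 * 2 := by
  have := card_normalizer_mul_card_sylow 3 P
  rw [n3 h, h] at this
  omega

theorem not_le3 (h : Nat.card G = 168) (P : Sylow 3 G) :
    ¬ Subgroup.normalizer ((P : Subgroup G) : Set G) ≤
      Subgroup.centralizer ((P : Subgroup G) : Set G) := fun hle =>
  false_of_normalizer_le_centralizer (not_comm h) 3 (by rw [h]; norm_num) P hle

theorem card_order3 (h : Nat.card G = 168) : Nat.card {g : G // orderOf g = 3} = 56 := by
  rw [card_orderOf_eq_prime 3 (card_sylow3 h), n3 h]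

/-- element orders -/
theorem orderOf_mem (h : Nat.card G = 168) (g : G) :
    orderOf g = 1 ∨ orderOf g = 2 ∨ orderOf g = 3 ∨ orderOf g = 4 ∨ orderOf g = 7 := by
  by_cases h7 : 7 ∣ orderOf g
  · right; right; right; right
    exact orderOf_eq_prime_of_dvd 7 3 (by norm_num) (card_sylow7 h) (card_normalizer7 h)
      (not_le7 h) g h7
  by_cases h3 : 3 ∣ orderOf g
  · right; right; left
    exact orderOf_eq_prime_of_dvd 3 2 (by norm_num) (card_sylow3 h) (card_normalizer3 h)
      (not_le3 h) g h3
  have hdvd : orderOf g ∣ 168 := h ▸ orderOf_dvd_natCard g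
  have h8 : orderOf g ∣ 8 := by
    have hc7 : Nat.Coprime (orderOf g) 7 :=
      (Nat.Coprime.symm ((Nat.Prime.coprime_iff_not_dvd (by norm_num)).mpr h7))
    have hc3 : Nat.Coprime (orderOf g) 3 :=
      (Nat.Coprime.symm ((Nat.Prime.coprime_iff_not_dvd (by norm_num)).mpr h3))
    have h1 : orderOf g ∣ 24 * 7 := by norm_num; exact hdvd
    have h2 : orderOf g ∣ 24 := hc7.dvd_of_dvd_mul_right h1
    have h3' : orderOf g ∣ 8 * 3 := by norm_num; exact h2
    exact hc3.dvd_of_dvd_mul_right h3'
  have hle := Nat.le_of_dvd (by norm_num) h8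
  have hpos := orderOf_pos g
  have hne8 : orderOf g ≠ 8 := by
    intro h8'
    -- zpowers g is a cyclic Sylow 2-subgroup
    have hpg : IsPGroup 2 ↥(Subgroup.zpowers g) :=
      IsPGroup.of_card (n := 3) (by rw [Nat.card_zpowers, h8']; norm_num)
    obtain ⟨T, hT⟩ := hpg.exists_le_sylow
    have hTeq : Subgroup.zpowers g = (T : Subgroup G) :=
      Subgroup.eq_of_le_of_card_ge hT (by rw [card_sylow2 h, Nat.card_zpowers, h8'])
    have hcyc : IsCyclic ↥(T : Subgroup G) := by
      rw [← hTeq]; infer_instance
    have hmin : (Nat.card G).minFac = 2 := (Nat.minFac_eq_two_iff _).mpr (by rw [h]; norm_num)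
    exact false_of_normalizer_le_centralizer (not_comm h) 2 (by rw [h]; norm_num) T
      (IsCyclic.normalizer_le_centralizer hmin hcyc)
  generalize orderOf g = m at *
  interval_cases m <;> omega

theorem card_two_elements (h : Nat.card G = 168) :
    Nat.card {g : G // orderOf g = 1 ∨ orderOf g = 2 ∨ orderOf g = 4} = 64 := by
  classical
  have hsum := sum_card_orderOf_eq (G := G) ({1, 2, 3, 4, 7} : Finset ℕ) (by
    intro g
    simp only [Finset.mem_insert, Finset.mem_singleton]
    exact orderOf_mem h g)
  rw [Finset.sum_insert (by decide), Finset.sum_insert (by decide),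
    Finset.sum_insert (by decide), Finset.sum_insert (by decide), Finset.sum_singleton,
    card_order3 h, card_order7 h, h] at hsum
  have := Fintype.ofFinite G
  have hunion : Nat.card {g : G // orderOf g = 1 ∨ orderOf g = 2 ∨ orderOf g = 4} =
      Nat.card {g : G // orderOf g = 1} + Nat.card {g : G // orderOf g = 2} +
        Nat.card {g : G // orderOf g = 4} := by
    simp only [Nat.card_eq_fintype_card, Fintype.card_subtype]
    rw [Finset.filter_or, Finset.filter_or, Finset.card_union_of_disjoint,
      Finset.card_union_of_disjoint, add_assoc]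
    · rw [Finset.disjoint_left]
      intro g hg1 hg2
      simp only [Finset.mem_filter, Finset.mem_univ, true_and] at hg1 hg2
      omega
    · rw [Finset.disjoint_left]
      intro g hg1 hg2
      simp only [Finset.mem_filter, Finset.mem_univ, true_and, Finset.mem_union] at hg1 hg2
      omega
  omega

theorem n2 (h : Nat.card G = 168) : Nat.card (Sylow 2 G) = 21 := by
  classical
  have hd := card_sylow_dvd_of_card_eq (G := G) 2 3 21 (by rw [h]; norm_num) (by norm_num)
  obtain ⟨T⟩ : Nonempty (Sylow 2 G) := inferInstance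
  have hge := seven_le_card_sylow h 2 T (by rw [card_sylow2 h]; norm_num)
    (by rw [card_sylow2 h, h]; norm_num)
  have hle := Nat.le_of_dvd (by norm_num) hd
  have hcases : Nat.card (Sylow 2 G) = 7 ∨ Nat.card (Sylow 2 G) = 21 := by
    generalize Nat.card (Sylow 2 G) = n at *
    interval_cases n <;> omega
  rcases hcases with h7 | h21
  swap
  · exact h21
  exfalso
  have := Fintype.ofFinite G
  have : Fintype (Sylow 2 G) := Fintype.ofFinite _
  have h64 := card_two_elements h
  rw [Nat.card_eq_fintype_card, Fintype.card_subtype] at h64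
  have hsub : Finset.univ.filter (fun g : G => orderOf g = 1 ∨ orderOf g = 2 ∨ orderOf g = 4) ⊆
      insert 1 (Finset.univ.biUnion (fun T : Sylow 2 G =>
        (Finset.univ.filter (fun g : G => g ∈ (T : Subgroup G))).erase 1)) := by
    intro g hg
    simp only [Finset.mem_filter, Finset.mem_univ, true_and] at hg
    by_cases hg1 : g = 1
    · rw [hg1]; exact Finset.mem_insert_self _ _
    apply Finset.mem_insert_of_mem
    have hpg : IsPGroup 2 ↥(Subgroup.zpowers g) := by
      rcases hg with hg | hg | hg
      · exact IsPGroup.of_card (n := 0) (by rw [Nat.card_zpowers, hg]; norm_num)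
      · exact IsPGroup.of_card (n := 1) (by rw [Nat.card_zpowers, hg]; norm_num)
      · exact IsPGroup.of_card (n := 2) (by rw [Nat.card_zpowers, hg]; norm_num)
    obtain ⟨T', hT'⟩ := hpg.exists_le_sylow
    simp only [Finset.mem_biUnion, Finset.mem_univ, true_and, Finset.mem_erase, Finset.mem_filter]
    exact ⟨T', hg1, hT' (Subgroup.mem_zpowers g)⟩
  have hcard := Finset.card_le_card hsub
  rw [h64] at hcard
  have h1 : (insert 1 (Finset.univ.biUnion (fun T : Sylow 2 G =>
        (Finset.univ.filter (fun g : G => g ∈ (T : Subgroup G))).erase 1))).card ≤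
      1 + 7 * 7 := by
    refine le_trans (Finset.card_insert_le _ _) ?_
    rw [add_comm]
    apply Nat.add_le_add_left
    refine le_trans Finset.card_biUnion_le ?_
    have : ∀ T : Sylow 2 G, ((Finset.univ.filter (fun g : G => g ∈ (T : Subgroup G))).erase 1).card
        = 7 := by
      intro T
      rw [Finset.card_erase_of_mem (by simp)]
      have := card_sylow2 h T
      rw [Nat.card_eq_fintype_card, Fintype.card_subtype] at this
      rw [this]
    simp_rw [this]
    rw [Finset.sum_const, Finset.card_univ, ← Nat.card_eq_fintype_card, h7]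
    rfl
  omega

end Cfsg.Agent.Lib.Helper23.G168
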