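import Cfsg.Agent.Lib.Helper23.G168.Sylow2

namespace Cfsg.Agent.Lib.Helper23.G168

open Cfsg.Agent.Lib.Helper23

variable {G : Type*} [Group G] [Finite G] [IsSimpleGroup G]

attribute [local instance] fact2 fact3 fact7

theorem dvd8_of_dvd_168 (d : ℕ) (hd : d ∣ 168) (h3 : ¬ 3 ∣ d) (h7 : ¬ 7 ∣ d) : d ∣ 8 := by
  have := Nat.le_of_dvd (by norm_num) hd
  interval_cases d <;> omega

theorem dvd3_of_dvd_168 (d : ℕ) (hd : d ∣ 168) (h2 : ¬ 2 ∣ d) (h7 : ¬ 7 ∣ d) : d ∣ 3 := by
  have := Nat.le_of_dvd (by norm_num) hd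
  interval_cases d <;> omega

theorem dvd7_of_dvd_168 (d : ℕ) (hd : d ∣ 168) (h2 : ¬ 2 ∣ d) (h3 : ¬ 3 ∣ d) : d ∣ 7 := by
  have := Nat.le_of_dvd (by norm_num) hd
  interval_cases d <;> omega

omit [Finite G] [IsSimpleGroup G] in
theorem orderOf_eq_of_isConj {x y : G} (hxy : IsConj x y) : orderOf y = orderOf x := by
  obtain ⟨c, hc⟩ := isConj_iff.mp hxy
  rw [← hc]
  exact ((SemiconjBy.conj_mk c x).orderOf_eq c).symm

omit [IsSimpleGroup G] in
theorem orderOf_dvd_card_centralizer (g : G) :
    orderOf g ∣ Nat.card ↥(Subgroup.centralizer ({g} : Set G)) := by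
  have hg : g ∈ Subgroup.centralizer ({g} : Set G) := Subgroup.mem_centralizer_singleton_iff.mpr rfl
  have := orderOf_dvd_natCard (⟨g, hg⟩ : ↥(Subgroup.centralizer ({g} : Set G)))
  rwa [Subgroup.orderOf_mk] at this

/-- a prime not dividing the order of `g ≠ 1` does not divide the order of the centralizer. -/
theorem not_dvd_card_centralizer (h : Nat.card G = 168) (g : G) (hg1 : g ≠ 1) (p : ℕ)
    (hp : p.Prime) (hpn : ¬ p ∣ orderOf g) :
    ¬ p ∣ Nat.card ↥(Subgroup.centralizer ({g} : Set G)) := by
  intro hpd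
  have := Fact.mk hp
  obtain ⟨⟨c, hcC⟩, hc⟩ :=
    exists_prime_orderOf_dvd_card' (G := ↥(Subgroup.centralizer ({g} : Set G))) p hpd
  rw [Subgroup.orderOf_mk] at hc
  have hcomm : c * g = g * c := (Subgroup.mem_centralizer_singleton_iff.mp hcC)
  have hco : (orderOf c).Coprime (orderOf g) := by
    rw [hc]
    exact (Nat.Prime.coprime_iff_not_dvd hp).mpr hpn
  have hmul := orderOf_mul_of_commute_coprime c g hcomm hco
  rw [hc] at hmul
  have hp2 := hp.two_le
  have hg1' : orderOf g ≠ 1 := fun h1 => hg1 (orderOf_eq_one_iff.mp h1)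
  have hcases : p = 2 ∧ orderOf g = 2 := by
    rcases orderOf_mem h g with h1 | h1 | h1 | h1 | h1 <;>
      rcases orderOf_mem h (c * g) with h2 | h2 | h2 | h2 | h2 <;>
      rw [h1] at hmul <;> rw [h2] at hmul <;> first | omega | (constructor <;> omega)
  apply hpn
  rw [hcases.1, hcases.2]

omit [IsSimpleGroup G] in
theorem card_isConj_le (x : G) :
    Nat.card {g : G // IsConj x g} ≤ Nat.card {g : G // orderOf g = orderOf x} := by
  apply Nat.card_le_card_of_injective
    (fun g : {g : G // IsConj x g} =>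
      (⟨g.1, orderOf_eq_of_isConj g.2⟩ : {g : G // orderOf g = orderOf x}))
  intro a b hab
  simp only [Subtype.mk.injEq] at hab
  exact Subtype.ext hab

omit [IsSimpleGroup G] in
/-- if the class of `x` is as large as the set of elements of the same order, every element
of that order is conjugate to `x`. -/
theorem isConj_of_card_eq (x y : G) (hy : orderOf y = orderOf x)
    (hcard : Nat.card {g : G // IsConj x g} = Nat.card {g : G // orderOf g = orderOf x}) :
    IsConj x y := by
  classical
  have := Fintype.ofFinite G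
  rw [Nat.card_eq_fintype_card, Nat.card_eq_fintype_card, Fintype.card_subtype,
    Fintype.card_subtype] at hcard
  have hsub : Finset.univ.filter (fun g : G => IsConj x g) ⊆
      Finset.univ.filter (fun g : G => orderOf g = orderOf x) := by
    intro g hg
    simp only [Finset.mem_filter, Finset.mem_univ, true_and] at hg ⊢
    exact orderOf_eq_of_isConj hg
  have heq := Finset.eq_of_subset_of_card_le hsub (le_of_eq hcard.symm)
  have : y ∈ Finset.univ.filter (fun g : G => orderOf g = orderOf x) := by simp [hy]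
  rw [← heq] at this
  simpa using this


theorem card_centralizer_dvd_168 (h : Nat.card G = 168) (g : G) :
    Nat.card ↥(Subgroup.centralizer ({g} : Set G)) ∣ 168 :=
  h ▸ Subgroup.card_subgroup_dvd_card _

theorem card_centralizer_three (h : Nat.card G = 168) (g : G) (hg : orderOf g = 3) :
    Nat.card ↥(Subgroup.centralizer ({g} : Set G)) = 3 := by
  have hg1 : g ≠ 1 := by
    intro h1; rw [h1, orderOf_one] at hg; omega
  have h2 := not_dvd_card_centralizer h g hg1 2 (by norm_num) (by rw [hg]; norm_num)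
  have h7 := not_dvd_card_centralizer h g hg1 7 (by norm_num) (by rw [hg]; norm_num)
  have hd := dvd3_of_dvd_168 _ (card_centralizer_dvd_168 h g) h2 h7
  have hd' := orderOf_dvd_card_centralizer g
  rw [hg] at hd'
  exact Nat.dvd_antisymm hd hd'

theorem card_centralizer_seven (h : Nat.card G = 168) (g : G) (hg : orderOf g = 7) :
    Nat.card ↥(Subgroup.centralizer ({g} : Set G)) = 7 := by
  have hg1 : g ≠ 1 := by
    intro h1; rw [h1, orderOf_one] at hg; omega
  have h2 := not_dvd_card_centralizer h g hg1 2 (by norm_num) (by rw [hg]; norm_num)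
  have h3 := not_dvd_card_centralizer h g hg1 3 (by norm_num) (by rw [hg]; norm_num)
  have hd := dvd7_of_dvd_168 _ (card_centralizer_dvd_168 h g) h2 h3
  have hd' := orderOf_dvd_card_centralizer g
  rw [hg] at hd'
  exact Nat.dvd_antisymm hd hd'

omit [Finite G] [IsSimpleGroup G] in
/-- a subgroup with a central cyclic subgroup of index 2 is commutative. -/
theorem comm_of_central_index_two (H : Subgroup G) (u : G)
    (hc : ∀ t ∈ H, t * u = u * t) (hidx : ((Subgroup.zpowers u).subgroupOf H).index = 2) :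
    ∀ a ∈ H, ∀ b ∈ H, a * b = b * a := by
  have hcomm : ∀ a ∈ H, ∀ c ∈ Subgroup.zpowers u, a * c = c * a := by
    intro a ha c hc'
    obtain ⟨k, rfl⟩ := Subgroup.mem_zpowers_iff.mp hc'
    exact ((show Commute a u from hc a ha).zpow_right k).eq
  intro a ha b hb
  by_cases haK : a ∈ Subgroup.zpowers u
  · exact (hcomm b hb a haK).symm
  by_cases hbK : b ∈ Subgroup.zpowers u
  · exact hcomm a ha b hbK
  have hmem : (⟨a, ha⟩ : ↥H)⁻¹ * ⟨b, hb⟩ ∈ (Subgroup.zpowers u).subgroupOf H := by
    rw [Subgroup.mul_mem_iff_of_index_two hidx]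
    constructor
    · intro h1
      exfalso
      rw [Subgroup.inv_mem_iff, Subgroup.mem_subgroupOf] at h1
      exact haK h1
    · intro h1
      exfalso
      rw [Subgroup.mem_subgroupOf] at h1
      exact hbK h1
  rw [Subgroup.mem_subgroupOf] at hmem
  have hmem' : a⁻¹ * b ∈ Subgroup.zpowers u := hmem
  have h1 := hcomm a ha _ hmem'
  calc a * b = a * (a * (a⁻¹ * b)) := by group
    _ = a * ((a⁻¹ * b) * a) := by rw [h1]
    _ = b * a := by group

theorem card_centralizer_four (h : Nat.card G = 168) (u : G) (hu : orderOf u = 4) :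
    Nat.card ↥(Subgroup.centralizer ({u} : Set G)) = 4 := by
  have hd := card_centralizer_dvd_eight h u (Or.inr hu)
  have hd' := orderOf_dvd_card_centralizer u
  rw [hu] at hd'
  have hle := Nat.le_of_dvd (by norm_num) hd
  have hcases : Nat.card ↥(Subgroup.centralizer ({u} : Set G)) = 4 ∨
      Nat.card ↥(Subgroup.centralizer ({u} : Set G)) = 8 := by
    generalize Nat.card ↥(Subgroup.centralizer ({u} : Set G)) = n at *
    interval_cases n <;> omega
  rcases hcases with h4 | h8
  · exact h4
  exfalso
  -- the centralizer is a Sylow 2-subgroup with `u` central of order 4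
  have hpg : IsPGroup 2 ↥(Subgroup.centralizer ({u} : Set G)) :=
    IsPGroup.of_card (n := 3) (by rw [h8]; norm_num)
  obtain ⟨T, hT⟩ := hpg.exists_le_sylow
  have hTeq : Subgroup.centralizer ({u} : Set G) = (T : Subgroup G) :=
    Subgroup.eq_of_le_of_card_ge hT (by rw [card_sylow2 h, h8])
  have huT : u ∈ (T : Subgroup G) := by
    rw [← hTeq]; exact Subgroup.mem_centralizer_singleton_iff.mpr rfl
  have hc : ∀ t ∈ (T : Subgroup G), t * u = u * t := by
    intro t ht
    rw [← hTeq] at ht
    exact Subgroup.mem_centralizer_singleton_iff.mp ht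
  have hKle : Subgroup.zpowers u ≤ (T : Subgroup G) := by
    rw [Subgroup.zpowers_le]; exact huT
  have hcardK : Nat.card ↥((Subgroup.zpowers u).subgroupOf (T : Subgroup G)) = 4 := by
    rw [Nat.card_congr (Subgroup.subgroupOfEquivOfLe hKle).toEquiv, Nat.card_zpowers, hu]
  have hidx : ((Subgroup.zpowers u).subgroupOf (T : Subgroup G)).index = 2 := by
    have := Subgroup.card_mul_index ((Subgroup.zpowers u).subgroupOf (T : Subgroup G))
    rw [hcardK, card_sylow2 h] at this
    omega
  obtain ⟨w, hwT, _, t, htT, hne⟩ := exists_noncentral_involution h T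
  exact hne (comm_of_central_index_two _ u hc hidx t htT w hwT)

theorem exists_orderOf_four (h : Nat.card G = 168) : ∃ u : G, orderOf u = 4 := by
  obtain ⟨T⟩ : Nonempty (Sylow 2 G) := inferInstance
  obtain ⟨x, y, _, _, _, _, hxy⟩ := exists_dihedral_generators h T
  exact ⟨x * y, hxy⟩

theorem exists_orderOf_two (h : Nat.card G = 168) : ∃ u : G, orderOf u = 2 := by
  obtain ⟨T⟩ : Nonempty (Sylow 2 G) := inferInstance
  obtain ⟨x, y, _, _, hx, _, hxy⟩ := exists_dihedral_generators h T
  exact ⟨x, hx⟩

theorem card_order2_add_card_order4 (h : Nat.card G = 168) :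
    Nat.card {g : G // orderOf g = 2} + Nat.card {g : G // orderOf g = 4} = 63 := by
  classical
  have hsum := sum_card_orderOf_eq (G := G) ({1, 2, 3, 4, 7} : Finset ℕ) (by
    intro g
    simp only [Finset.mem_insert, Finset.mem_singleton]
    exact orderOf_mem h g)
  rw [Finset.sum_insert (by decide), Finset.sum_insert (by decide),
    Finset.sum_insert (by decide), Finset.sum_insert (by decide), Finset.sum_singleton,
    card_order3 h, card_order7 h, h] at hsum
  have h1 : Nat.card {g : G // orderOf g = 1} = 1 := by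
    rw [Nat.card_eq_one_iff_unique]
    refine ⟨⟨?_⟩, ⟨⟨1, orderOf_one⟩⟩⟩
    rintro ⟨a, ha⟩ ⟨b, hb⟩
    rw [Subtype.mk.injEq, orderOf_eq_one_iff.mp ha, orderOf_eq_one_iff.mp hb]
  omega

theorem card_order4 (h : Nat.card G = 168) : Nat.card {g : G // orderOf g = 4} = 42 ∧
    Nat.card {g : G // orderOf g = 2} = 21 := by
  have hsum := card_order2_add_card_order4 h
  obtain ⟨u, hu⟩ := exists_orderOf_four h
  obtain ⟨t, ht⟩ := exists_orderOf_two h
  have h1 := card_isConj_mul_card_centralizer u
  rw [card_centralizer_four h u hu, h] at h1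
  have h2 := card_isConj_le u
  rw [hu] at h2
  have h3 := card_isConj_mul_card_centralizer t
  have h4 := card_isConj_le t
  rw [ht] at h4
  have h5 := card_centralizer_dvd_eight h t (Or.inl ht)
  rw [h] at h3
  have hle := Nat.le_of_dvd (by norm_num) h5
  generalize Nat.card ↥(Subgroup.centralizer ({t} : Set G)) = n at *
  interval_cases n <;> omega

theorem card_isConj_four (h : Nat.card G = 168) (u : G) (hu : orderOf u = 4) :
    Nat.card {g : G // IsConj u g} = 42 := by
  have h1 := card_isConj_mul_card_centralizer u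
  rw [card_centralizer_four h u hu, h] at h1
  omega

theorem card_isConj_two (h : Nat.card G = 168) (t : G) (ht : orderOf t = 2) :
    Nat.card {g : G // IsConj t g} = 21 := by
  have h3 := card_isConj_mul_card_centralizer t
  have h4 := card_isConj_le t
  rw [ht, (card_order4 h).2] at h4
  have h5 := card_centralizer_dvd_eight h t (Or.inl ht)
  rw [h] at h3
  have hle := Nat.le_of_dvd (by norm_num) h5
  generalize Nat.card ↥(Subgroup.centralizer ({t} : Set G)) = n at *
  interval_cases n <;> omega

theorem card_centralizer_two (h : Nat.card G = 168) (t : G) (ht : orderOf t = 2) :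
    Nat.card ↥(Subgroup.centralizer ({t} : Set G)) = 8 := by
  have h3 := card_isConj_mul_card_centralizer t
  rw [card_isConj_two h t ht, h] at h3
  omega

theorem isConj_of_orderOf_two (h : Nat.card G = 168) (s t : G) (hs : orderOf s = 2)
    (ht : orderOf t = 2) : IsConj s t :=
  isConj_of_card_eq s t (by rw [hs, ht]) (by rw [card_isConj_two h s hs, hs, (card_order4 h).2])

theorem isConj_of_orderOf_four (h : Nat.card G = 168) (s t : G) (hs : orderOf s = 4)
    (ht : orderOf t = 4) : IsConj s t :=
  isConj_of_card_eq s t (by rw [hs, ht]) (by rw [card_isConj_four h s hs, hs, (card_order4 h).1])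

theorem card_isConj_three (h : Nat.card G = 168) (u : G) (hu : orderOf u = 3) :
    Nat.card {g : G // IsConj u g} = 56 := by
  have h1 := card_isConj_mul_card_centralizer u
  rw [card_centralizer_three h u hu, h] at h1
  omega

theorem isConj_of_orderOf_three (h : Nat.card G = 168) (s t : G) (hs : orderOf s = 3)
    (ht : orderOf t = 3) : IsConj s t :=
  isConj_of_card_eq s t (by rw [hs, ht]) (by rw [card_isConj_three h s hs, hs, card_order3 h])

theorem card_isConj_seven (h : Nat.card G = 168) (u : G) (hu : orderOf u = 7) :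
    Nat.card {g : G // IsConj u g} = 24 := by
  have h1 := card_isConj_mul_card_centralizer u
  rw [card_centralizer_seven h u hu, h] at h1
  omega


/-- a cyclic subgroup of order 7 as a Sylow subgroup. -/
theorem exists_sylow7_eq_zpowers (h : Nat.card G = 168) (x : G) (hx : orderOf x = 7) :
    ∃ P : Sylow 7 G, (P : Subgroup G) = Subgroup.zpowers x := by
  have hpg : IsPGroup 7 ↥(Subgroup.zpowers x) :=
    IsPGroup.of_card (n := 1) (by rw [Nat.card_zpowers, hx]; norm_num)
  obtain ⟨P, hP⟩ := hpg.exists_le_sylow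
  exact ⟨P, (Subgroup.eq_of_le_of_card_ge hP (by rw [card_sylow7 h, Nat.card_zpowers, hx])).symm⟩

theorem exists_sylow3_eq_zpowers (h : Nat.card G = 168) (x : G) (hx : orderOf x = 3) :
    ∃ P : Sylow 3 G, (P : Subgroup G) = Subgroup.zpowers x := by
  have hpg : IsPGroup 3 ↥(Subgroup.zpowers x) :=
    IsPGroup.of_card (n := 1) (by rw [Nat.card_zpowers, hx]; norm_num)
  obtain ⟨P, hP⟩ := hpg.exists_le_sylow
  exact ⟨P, (Subgroup.eq_of_le_of_card_ge hP (by rw [card_sylow3 h, Nat.card_zpowers, hx])).symm⟩

omit [Finite G] [IsSimpleGroup G] in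
theorem mem_normalizer_zpowers_of_conj_mem (c x : G) (hx : orderOf x ≠ 0)
    (hc : c * x * c⁻¹ ∈ Subgroup.zpowers x) :
    c ∈ Subgroup.normalizer ((Subgroup.zpowers x : Subgroup G) : Set G) := by
  -- conjugation by c maps zpowers x into itself, hence onto by finiteness
  have hfin : Finite ↥(Subgroup.zpowers x) :=
    Nat.finite_of_card_ne_zero (by rw [Nat.card_zpowers]; exact hx)
  have hle : ∀ g ∈ Subgroup.zpowers x, c * g * c⁻¹ ∈ Subgroup.zpowers x := by
    intro g hg
    obtain ⟨k, rfl⟩ := Subgroup.mem_zpowers_iff.mp hg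
    have : c * x ^ k * c⁻¹ = (c * x * c⁻¹) ^ k := by
      rw [conj_zpow]
    rw [this]
    exact Subgroup.zpow_mem _ hc k
  have hmap : (Subgroup.zpowers x).map (MulAut.conj c).toMonoidHom ≤ Subgroup.zpowers x := by
    rintro _ ⟨g, hg, rfl⟩
    exact hle g hg
  have hcard : Nat.card ↥((Subgroup.zpowers x).map (MulAut.conj c).toMonoidHom) =
      Nat.card ↥(Subgroup.zpowers x) :=
    Subgroup.card_map_of_injective (MulAut.conj c).injective
  have heq : (Subgroup.zpowers x).map (MulAut.conj c).toMonoidHom = Subgroup.zpowers x :=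
    Subgroup.eq_of_le_of_card_ge hmap (le_of_eq hcard.symm)
  rw [Subgroup.mem_normalizer_iff]
  intro g
  constructor
  · exact hle g
  · intro hg
    rw [← heq] at hg
    obtain ⟨g', hg', hgg'⟩ := hg
    have : g' = g := by
      have h1 : c * g' * c⁻¹ = c * g * c⁻¹ := hgg'
      exact mul_left_cancel (mul_right_cancel h1)
    rw [← this]; exact hg'

theorem not_isConj_inv_seven (h : Nat.card G = 168) (x : G) (hx : orderOf x = 7) :
    ¬ IsConj x x⁻¹ := by
  intro hconj
  obtain ⟨c, hc⟩ := isConj_iff.mp hconj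
  obtain ⟨P, hP⟩ := exists_sylow7_eq_zpowers h x hx
  have hcN : c ∈ Subgroup.normalizer ((P : Subgroup G) : Set G) := by
    rw [hP]
    apply mem_normalizer_zpowers_of_conj_mem c x (by rw [hx]; norm_num)
    rw [hc]
    exact Subgroup.inv_mem _ (Subgroup.mem_zpowers x)
  have hord : orderOf c ∣ 21 := by
    have := orderOf_dvd_natCard (⟨c, hcN⟩ : ↥(Subgroup.normalizer ((P : Subgroup G) : Set G)))
    rw [Subgroup.orderOf_mk, card_normalizer7 h P] at this
    exact this
  -- c² commutes with x
  have hc2 : Commute (c ^ 2) x := by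
    have h1 : c * x = x⁻¹ * c := by
      calc c * x = (c * x * c⁻¹) * c := by group
        _ = x⁻¹ * c := by rw [hc]
    have h2 : c * x⁻¹ = x * c := by
      calc c * x⁻¹ = (c * x * c⁻¹)⁻¹ * c := by group
        _ = x * c := by rw [hc, inv_inv]
    show c ^ 2 * x = x * c ^ 2
    calc c ^ 2 * x = c * (c * x) := by rw [pow_two, mul_assoc]
      _ = c * (x⁻¹ * c) := by rw [h1]
      _ = (c * x⁻¹) * c := by rw [mul_assoc]
      _ = (x * c) * c := by rw [h2]
      _ = x * c ^ 2 := by rw [pow_two, mul_assoc]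
  -- the order of c is odd
  have hodd : ∃ m, orderOf c = 2 * m + 1 := by
    have hle := Nat.le_of_dvd (by norm_num) hord
    generalize orderOf c = n at *
    interval_cases n <;> first | omega | exact ⟨0, rfl⟩ | exact ⟨1, rfl⟩ | exact ⟨3, rfl⟩ | exact ⟨10, rfl⟩
  obtain ⟨m, hm⟩ := hodd
  have hcm : c = (c ^ 2) ^ (m + 1) := by
    rw [← pow_mul]
    have : 2 * (m + 1) = orderOf c + 1 := by omega
    rw [this, pow_succ, pow_orderOf_eq_one, one_mul]
  have hcx : Commute c x := by
    rw [hcm]; exact hc2.pow_left _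
  have hxx : x = x⁻¹ := by
    calc x = c * x * c⁻¹ := by rw [hcx.eq]; group
      _ = x⁻¹ := hc
  have hx2 : x ^ 2 = 1 := by
    rw [pow_two]
    nth_rewrite 1 [hxx]
    exact inv_mul_cancel x
  have := orderOf_dvd_of_pow_eq_one hx2
  rw [hx] at this
  omega

end Cfsg.Agent.Lib.Helper23.G168
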