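import Cfsg.Agent.Lib.Helper23.G168.Classes
import Cfsg.Agent.Lib.Helper12.FourGroup
import Cfsg.Agent.S1012

namespace Cfsg.Agent.Lib.Helper23.G168

open Cfsg.Agent.Lib.Helper23 Cfsg.Agent.Lib.Helper12 Cfsg.Agent.Lib.Helper06

variable {G : Type*} [Group G] [Finite G] [IsSimpleGroup G]

attribute [local instance] fact2 fact3 fact7

omit [Finite G] [IsSimpleGroup G] in
/-- a subgroup with a central subgroup of index 2 is commutative. -/
theorem comm_of_central_index_two' (H K : Subgroup G)
    (hc : ∀ t ∈ H, ∀ c ∈ K, t * c = c * t) (hidx : (K.subgroupOf H).index = 2) :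
    ∀ a ∈ H, ∀ b ∈ H, a * b = b * a := by
  intro a ha b hb
  by_cases haK : a ∈ K
  · exact (hc b hb a haK).symm
  by_cases hbK : b ∈ K
  · exact hc a ha b hbK
  have hmem : (⟨a, ha⟩ : ↥H)⁻¹ * ⟨b, hb⟩ ∈ K.subgroupOf H := by
    rw [Subgroup.mul_mem_iff_of_index_two hidx]
    constructor
    · intro h1
      exfalso
      rw [Subgroup.inv_mem_iff, Subgroup.mem_subgroupOf] at h1
      exact haK h1
    · intro h1
      exfalso
      rw [Subgroup.mem_subgroupOf] at h1
      exact hbK h1
  rw [Subgroup.mem_subgroupOf] at hmem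
  have hmem' : a⁻¹ * b ∈ K := hmem
  have h1 := hc a ha _ hmem'
  calc a * b = a * (a * (a⁻¹ * b)) := by group
    _ = a * ((a⁻¹ * b) * a) := by rw [h1]
    _ = b * a := by group

omit [Finite G] [IsSimpleGroup G] in
theorem index_subgroupOf_eq_two (K T : Subgroup G) (hKT : K ≤ T) (hK : Nat.card ↥K = 4)
    (hT : Nat.card ↥T = 8) : (K.subgroupOf T).index = 2 := by
  have hcardK : Nat.card ↥(K.subgroupOf T) = 4 := by
    rw [Nat.card_congr (Subgroup.subgroupOfEquivOfLe hKT).toEquiv, hK]
  have := Subgroup.card_mul_index (K.subgroupOf T)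
  rw [hcardK, hT] at this
  omega

omit [Finite G] [IsSimpleGroup G] in
theorem le_normalizer_of_card (K T : Subgroup G) (hKT : K ≤ T) (hK : Nat.card ↥K = 4)
    (hT : Nat.card ↥T = 8) : T ≤ Subgroup.normalizer (K : Set G) := by
  have hn : (K.subgroupOf T).Normal :=
    Subgroup.normal_of_index_eq_two (index_subgroupOf_eq_two K T hKT hK hT)
  exact Subgroup.le_normalizer_of_normal_subgroupOf hKT

/-- a Sylow 2-subgroup has at most one central involution. -/
theorem central_involution_unique (h : Nat.card G = 168) (T : Sylow 2 G) (a b : G)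
    (ha : a ∈ (T : Subgroup G)) (hb : b ∈ (T : Subgroup G)) (ha2 : orderOf a = 2)
    (hb2 : orderOf b = 2) (hca : ∀ t ∈ (T : Subgroup G), t * a = a * t)
    (hcb : ∀ t ∈ (T : Subgroup G), t * b = b * t) : a = b := by
  by_contra hne
  have haa : a * a = 1 := sq_one_of_orderOf_two ha2
  have hbb : b * b = 1 := sq_one_of_orderOf_two hb2
  have hab : a * b = b * a := hcb a ha
  have hK : IsKleinFour ↥(fourSub a b haa hbb hab) :=
    isKleinFour_fourSub haa hbb hab (ne_one_of_orderOf_two ha2) (ne_one_of_orderOf_two hb2) hne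
  have hKT : fourSub a b haa hbb hab ≤ (T : Subgroup G) := by
    intro g hg
    rw [mem_fourSub] at hg
    rcases hg with rfl | rfl | rfl | rfl
    · exact Subgroup.one_mem _
    · exact ha
    · exact hb
    · exact Subgroup.mul_mem _ ha hb
  have hidx := index_subgroupOf_eq_two _ (T : Subgroup G) hKT hK.card_four (card_sylow2 h T)
  have hc : ∀ t ∈ (T : Subgroup G), ∀ c ∈ fourSub a b haa hbb hab, t * c = c * t := by
    intro t ht c hc
    rw [mem_fourSub] at hc
    rcases hc with rfl | rfl | rfl | rfl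
    · simp
    · exact hca t ht
    · exact hcb t ht
    · rw [← mul_assoc, hca t ht, mul_assoc, hcb t ht, mul_assoc]
  obtain ⟨w, hwT, _, t, htT, hne'⟩ := exists_noncentral_involution h T
  exact hne' (comm_of_central_index_two' _ _ hc hidx t htT w hwT)

/-- a Klein four-subgroup of a Sylow 2-subgroup `T` is the centralizer in `T` of any of its
elements that is not central in `T`. -/
theorem klein_eq_inf_centralizer (h : Nat.card G = 168) (T : Sylow 2 G) (U : Subgroup G)
    (hU : IsKleinFour ↥U) (hUT : U ≤ (T : Subgroup G)) (a : G) (haU : a ∈ U)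
    (hnc : ∃ t ∈ (T : Subgroup G), t * a ≠ a * t) :
    U = (T : Subgroup G) ⊓ Subgroup.centralizer ({a} : Set G) := by
  have hle : U ≤ (T : Subgroup G) ⊓ Subgroup.centralizer ({a} : Set G) :=
    le_inf hUT (fun u hu => Subgroup.mem_centralizer_singleton_iff.mpr
      (comm_of_mem_kleinFour U hu haU))
  apply Subgroup.eq_of_le_of_card_ge hle
  rw [hU.card_four]
  have hd : Nat.card ↥((T : Subgroup G) ⊓ Subgroup.centralizer ({a} : Set G)) ∣ 8 := by
    rw [← card_sylow2 h T]
    exact Subgroup.card_dvd_of_le inf_le_left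
  have hne : Nat.card ↥((T : Subgroup G) ⊓ Subgroup.centralizer ({a} : Set G)) ≠ 8 := by
    intro h8
    have heq : (T : Subgroup G) ⊓ Subgroup.centralizer ({a} : Set G) = (T : Subgroup G) :=
      Subgroup.eq_of_le_of_card_ge inf_le_left (by rw [h8, card_sylow2 h])
    obtain ⟨t, ht, hta⟩ := hnc
    apply hta
    have : t ∈ (T : Subgroup G) ⊓ Subgroup.centralizer ({a} : Set G) := by
      rw [heq]; exact ht
    exact Subgroup.mem_centralizer_singleton_iff.mp this.2
  have hle8 := Nat.le_of_dvd (by norm_num) hd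
  generalize Nat.card ↥((T : Subgroup G) ⊓ Subgroup.centralizer ({a} : Set G)) = n at *
  interval_cases n <;> omega

/-- a Klein four-subgroup of a Sylow 2-subgroup contains an element not central in it. -/
theorem exists_noncentral_of_klein (h : Nat.card G = 168) (T : Sylow 2 G) (U : Subgroup G)
    (hU : IsKleinFour ↥U) (hUT : U ≤ (T : Subgroup G)) :
    ∃ a ∈ U, ∃ t ∈ (T : Subgroup G), t * a ≠ a * t := by
  by_contra hcon
  push Not at hcon
  obtain ⟨a, haU, ha1⟩ := exists_ne_one_of_kleinFour U
  obtain ⟨b, hbU, hb1, hab, _⟩ := exists_second_gen_of_kleinFour U haU ha1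
  have ha2 : orderOf a = 2 := orderOf_two_of_sq_one (mul_self_of_mem_kleinFour U haU) ha1
  have hb2 : orderOf b = 2 := orderOf_two_of_sq_one (mul_self_of_mem_kleinFour U hbU) hb1
  exact hab (central_involution_unique h T a b (hUT haU) (hUT hbU) ha2 hb2 (hcon a haU)
    (hcon b hbU))

/-- two Klein four-subgroups of `T` sharing an element not central in `T` are equal. -/
theorem klein_eq_of_common (h : Nat.card G = 168) (T : Sylow 2 G) (U W : Subgroup G)
    (hU : IsKleinFour ↥U) (hW : IsKleinFour ↥W) (hUT : U ≤ (T : Subgroup G))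
    (hWT : W ≤ (T : Subgroup G)) (a : G) (haU : a ∈ U) (haW : a ∈ W)
    (hnc : ∃ t ∈ (T : Subgroup G), t * a ≠ a * t) : U = W := by
  rw [klein_eq_inf_centralizer h T U hU hUT a haU hnc,
    klein_eq_inf_centralizer h T W hW hWT a haW hnc]


theorem exists_central_involution (h : Nat.card G = 168) (T : Sylow 2 G) :
    ∃ z ∈ (T : Subgroup G), orderOf z = 2 ∧ ∀ t ∈ (T : Subgroup G), t * z = z * t := by
  obtain ⟨x, y, hx, hy, hx2, hy2, hxy⟩ := exists_dihedral_generators h T
  have hcl := closure_dihedral_generators h T x y hx hy hx2 hy2 hxy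
  obtain ⟨ho, hcx, hcy⟩ := central_inv hx2 hy2 (by rw [hxy]; decide)
  rw [hxy] at ho hcx hcy
  refine ⟨(x * y) ^ (4 / 2), Subgroup.pow_mem _ (Subgroup.mul_mem _ hx hy) _, ho, ?_⟩
  intro t ht
  rw [← hcl] at ht
  have hle : Subgroup.closure ({x, y} : Set G) ≤
      Subgroup.centralizer ({(x * y) ^ (4 / 2)} : Set G) := by
    rw [Subgroup.closure_le]
    intro g hg
    rcases hg with rfl | rfl
    · exact Subgroup.mem_centralizer_singleton_iff.mpr hcx.eq.symm
    · exact Subgroup.mem_centralizer_singleton_iff.mpr hcy.eq.symm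
  exact Subgroup.mem_centralizer_singleton_iff.mp (hle ht)

/-- every involution of `T` commutes with one of the two dihedral generators. -/
theorem comm_of_involution (h : Nat.card G = 168) (T : Sylow 2 G) (x y : G)
    (hx : x ∈ (T : Subgroup G)) (hy : y ∈ (T : Subgroup G)) (hx2 : orderOf x = 2)
    (hy2 : orderOf y = 2) (hxy : orderOf (x * y) = 4) (a : G) (ha : a ∈ (T : Subgroup G))
    (haa : a * a = 1) : a * x = x * a ∨ a * y = y * a := by
  have hcl := closure_dihedral_generators h T x y hx hy hx2 hy2 hxy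
  have hx1 := sq_one_of_orderOf_two hx2
  have hy1 := sq_one_of_orderOf_two hy2
  obtain ⟨_, hcx, hcy⟩ := central_inv hx2 hy2 (by rw [hxy]; decide)
  rw [hxy] at hcx hcy
  have h42 : 4 / 2 = 2 := rfl
  rw [h42] at hcx hcy
  have hpow : ∀ m : ℤ, (x * y) ^ (2 * m) = ((x * y) ^ 2) ^ m := by
    intro m
    rw [zpow_mul, zpow_ofNat]
  have hcx' : ∀ m : ℤ, Commute ((x * y) ^ (2 * m)) x := fun m => by
    rw [hpow]; exact hcx.zpow_left m
  have hcy' : ∀ m : ℤ, Commute ((x * y) ^ (2 * m)) y := fun m => by
    rw [hpow]; exact hcy.zpow_left m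
  rw [← hcl, mem_closure_pair_iff hx1 hy1] at ha
  obtain ⟨k, hk | hk⟩ := ha
  · obtain ⟨m, hm | hm⟩ := Int.even_or_odd' k
    · left
      rw [hk, hm]
      exact (hcx' m).eq
    · exfalso
      rw [hk, ← zpow_add] at haa
      have := orderOf_dvd_iff_zpow_eq_one.mpr haa
      rw [hxy, hm] at this
      omega
  · obtain ⟨m, hm | hm⟩ := Int.even_or_odd' k
    · left
      rw [hk, hm]
      calc x * (x * y) ^ (2 * m) * x = x * ((x * y) ^ (2 * m) * x) := by rw [mul_assoc]
        _ = x * (x * (x * y) ^ (2 * m)) := by rw [(hcx' m).eq]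
    · right
      have hac : a = (x * y) ^ (2 * m) * y := by
        rw [hk, hm, zpow_add_one]
        calc x * ((x * y) ^ (2 * m) * (x * y)) = (x * (x * y) ^ (2 * m)) * (x * y) := by
              rw [mul_assoc]
          _ = ((x * y) ^ (2 * m) * x) * (x * y) := by rw [(hcx' m).eq]
          _ = (x * y) ^ (2 * m) * ((x * x) * y) := by simp only [mul_assoc]
          _ = (x * y) ^ (2 * m) * y := by rw [hx1, one_mul]
      rw [hac]
      calc (x * y) ^ (2 * m) * y * y = ((x * y) ^ (2 * m) * y) * y := rfl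
        _ = (y * (x * y) ^ (2 * m)) * y := by rw [(hcy' m).eq]
        _ = y * ((x * y) ^ (2 * m) * y) := by rw [mul_assoc]

theorem card_klein_in_sylow2 (h : Nat.card G = 168) (T : Sylow 2 G) :
    Nat.card {U : Subgroup G // U ≤ (T : Subgroup G) ∧ IsKleinFour ↥U} = 2 := by
  obtain ⟨x, y, hx, hy, hx2, hy2, hxy⟩ := exists_dihedral_generators h T
  obtain ⟨z, hz, hz2, hzc⟩ := exists_central_involution h T
  have hx1 := sq_one_of_orderOf_two hx2
  have hy1 := sq_one_of_orderOf_two hy2
  have hz1 := sq_one_of_orderOf_two hz2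
  have hxy_ne : x * y ≠ y * x := by
    intro hcomm
    have h1 : (x * y) ^ 2 = 1 := by
      rw [pow_two]
      calc x * y * (x * y) = x * y * (y * x) := by rw [hcomm]
        _ = x * (y * y) * x := by simp only [mul_assoc]
        _ = 1 := by rw [hy1, mul_one, hx1]
    have := orderOf_dvd_of_pow_eq_one h1
    rw [hxy] at this
    omega
  have hzx : z ≠ x := by
    rintro rfl
    exact hxy_ne (hzc y hy).symm
  have hzy : z ≠ y := by
    rintro rfl
    exact hxy_ne (hzc x hx)
  have hUx : IsKleinFour ↥(fourSub z x hz1 hx1 (hzc x hx).symm) :=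
    isKleinFour_fourSub _ _ _ (ne_one_of_orderOf_two hz2) (ne_one_of_orderOf_two hx2) hzx
  have hUy : IsKleinFour ↥(fourSub z y hz1 hy1 (hzc y hy).symm) :=
    isKleinFour_fourSub _ _ _ (ne_one_of_orderOf_two hz2) (ne_one_of_orderOf_two hy2) hzy
  have hUxT : fourSub z x hz1 hx1 (hzc x hx).symm ≤ (T : Subgroup G) := by
    intro g hg
    rw [mem_fourSub] at hg
    rcases hg with rfl | rfl | rfl | rfl
    · exact Subgroup.one_mem _
    · exact hz
    · exact hx
    · exact Subgroup.mul_mem _ hz hx
  have hUyT : fourSub z y hz1 hy1 (hzc y hy).symm ≤ (T : Subgroup G) := by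
    intro g hg
    rw [mem_fourSub] at hg
    rcases hg with rfl | rfl | rfl | rfl
    · exact Subgroup.one_mem _
    · exact hz
    · exact hy
    · exact Subgroup.mul_mem _ hz hy
  rw [Nat.card_eq_two_iff]
  refine ⟨⟨_, hUxT, hUx⟩, ⟨_, hUyT, hUy⟩, ?_, ?_⟩
  · intro heq
    have heq' : fourSub z x hz1 hx1 (hzc x hx).symm = fourSub z y hz1 hy1 (hzc y hy).symm :=
      congrArg Subtype.val heq
    have hxUy : x ∈ fourSub z y hz1 hy1 (hzc y hy).symm := by
      rw [← heq']; exact right_mem_fourSub
    exact hxy_ne (comm_of_mem_kleinFour _ hxUy right_mem_fourSub)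
  · ext ⟨U, hUT, hU⟩
    simp only [Set.mem_insert_iff, Set.mem_singleton_iff, Set.mem_univ, iff_true,
      Subtype.mk.injEq]
    obtain ⟨a, haU, hnc⟩ := exists_noncentral_of_klein h T U hU hUT
    have haa := mul_self_of_mem_kleinFour U haU
    rcases comm_of_involution h T x y hx hy hx2 hy2 hxy a (hUT haU) haa with hax | hay
    · left
      have hxU : x ∈ U := by
        rw [klein_eq_inf_centralizer h T U hU hUT a haU hnc]
        exact ⟨hx, Subgroup.mem_centralizer_singleton_iff.mpr hax.symm⟩
      exact klein_eq_of_common h T U _ hU hUx hUT hUxT x hxU right_mem_fourSub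
        ⟨y, hy, fun e => hxy_ne e.symm⟩
    · right
      have hyU : y ∈ U := by
        rw [klein_eq_inf_centralizer h T U hU hUT a haU hnc]
        exact ⟨hy, Subgroup.mem_centralizer_singleton_iff.mpr hay.symm⟩
      exact klein_eq_of_common h T U _ hU hUy hUT hUyT y hyU right_mem_fourSub
        ⟨x, hx, hxy_ne⟩


theorem card_normalizer_klein (h : Nat.card G = 168) (U : Subgroup G) (hU : IsKleinFour ↥U) :
    Nat.card ↥(Subgroup.normalizer (U : Set G)) = 24 := by
  have hpg : IsPGroup 2 ↥U := IsPGroup.of_card (n := 2) (by rw [hU.card_four]; norm_num)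
  obtain ⟨T, hUT⟩ := hpg.exists_le_sylow
  obtain ⟨a, haU, t, ht, hta⟩ := exists_noncentral_of_klein h T U hU hUT
  have ha1 : a ≠ 1 := by
    rintro rfl
    simp at hta
  have ha2 : orderOf a = 2 := orderOf_two_of_sq_one (mul_self_of_mem_kleinFour U haU) ha1
  have hC8 := card_centralizer_two h a ha2
  have hUC : U ≤ Subgroup.centralizer ({a} : Set G) := fun u hu =>
    Subgroup.mem_centralizer_singleton_iff.mpr (comm_of_mem_kleinFour U hu haU)
  have hTN : (T : Subgroup G) ≤ Subgroup.normalizer (U : Set G) :=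
    le_normalizer_of_card U T hUT hU.card_four (card_sylow2 h T)
  have hCN : Subgroup.centralizer ({a} : Set G) ≤ Subgroup.normalizer (U : Set G) :=
    le_normalizer_of_card U _ hUC hU.card_four hC8
  have hnot : ¬ Subgroup.centralizer ({a} : Set G) ≤ (T : Subgroup G) := by
    intro hle
    have heq : Subgroup.centralizer ({a} : Set G) = (T : Subgroup G) :=
      Subgroup.eq_of_le_of_card_ge hle (by rw [hC8, card_sylow2 h])
    apply hta
    have : t ∈ Subgroup.centralizer ({a} : Set G) := by rw [heq]; exact ht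
    exact Subgroup.mem_centralizer_singleton_iff.mp this
  have h8 : 8 ∣ Nat.card ↥(Subgroup.normalizer (U : Set G)) := by
    rw [← card_sylow2 h T]
    exact Subgroup.card_dvd_of_le hTN
  have hgt : 8 < Nat.card ↥(Subgroup.normalizer (U : Set G)) := by
    by_contra hle
    push Not at hle
    have heq : (T : Subgroup G) = Subgroup.normalizer (U : Set G) :=
      Subgroup.eq_of_le_of_card_ge hTN (by rw [card_sylow2 h]; exact hle)
    exact hnot (heq ▸ hCN)
  have hne_top : Subgroup.normalizer (U : Set G) ≠ ⊤ := by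
    intro htop
    have hn : U.Normal := Subgroup.normalizer_eq_top_iff.mp htop
    have h4 := hU.card_four
    rcases hn.eq_bot_or_eq_top with hb | ht
    · rw [hb] at h4; simp at h4
    · rw [ht, Subgroup.card_top, h] at h4; omega
  have hidx := seven_le_index h _ hne_top
  have hmul := Subgroup.card_mul_index (Subgroup.normalizer (U : Set G))
  rw [h] at hmul
  generalize Nat.card ↥(Subgroup.normalizer (U : Set G)) = n at *
  generalize (Subgroup.normalizer (U : Set G)).index = i at *
  have hn24 : n ≤ 24 := by nlinarith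
  interval_cases n <;> omega

theorem normalizer_klein_equiv (h : Nat.card G = 168) (U : Subgroup G) (hU : IsKleinFour ↥U) :
    Nonempty (↥(Subgroup.normalizer (U : Set G)) ≃* Equiv.Perm (Fin 4)) := by
  apply Cfsg.Agent.S1012.result (card_normalizer_klein h U hU)
  intro g hg
  rw [← Subgroup.orderOf_coe] at hg
  rcases orderOf_mem h (g : G) with h1 | h1 | h1 | h1 | h1 <;> omega

omit [IsSimpleGroup G] in
/-- Sylow's theorem inside a subgroup `N` containing `P` and a conjugate of `P`. -/
theorem exists_mem_mul_mem_normalizer {p : ℕ} [Fact p.Prime] (P : Sylow p G) (N : Subgroup G)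
    (g : G) (h1 : (P : Subgroup G) ≤ N) (h2 : ((g • P : Sylow p G) : Subgroup G) ≤ N) :
    ∃ n ∈ N, n * g ∈ Subgroup.normalizer ((P : Subgroup G) : Set G) := by
  obtain ⟨k, hk⟩ := MulAction.exists_smul_eq ↥N ((g • P).subtype h2) (P.subtype h1)
  simp_rw [Sylow.smul_subtype, Subgroup.smul_def, smul_smul] at hk
  exact ⟨k, k.2, Sylow.smul_eq_iff_mem_normalizer.mp (Sylow.subtype_injective hk)⟩

/-- distinct Klein four-subgroups of a Sylow 2-subgroup are not conjugate. -/
theorem klein_not_conj (h : Nat.card G = 168) (T : Sylow 2 G) (U W : Subgroup G)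
    (hUT : U ≤ (T : Subgroup G)) (hWT : W ≤ (T : Subgroup G)) (hU : IsKleinFour ↥U)
    (hW : IsKleinFour ↥W) (hne : U ≠ W) (g : G) :
    U.map (MulAut.conj g).toMonoidHom ≠ W := by
  intro hmap
  have h1 : (T : Subgroup G) ≤ Subgroup.normalizer (W : Set G) :=
    le_normalizer_of_card W T hWT hW.card_four (card_sylow2 h T)
  have h2 : ((g • T : Sylow 2 G) : Subgroup G) ≤ Subgroup.normalizer (W : Set G) := by
    apply le_normalizer_of_card W _ ?_ hW.card_four (card_sylow2 h _)
    rw [← hmap]
    rintro _ ⟨u, hu, rfl⟩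
    rw [mem_smul_sylow_iff]
    have : g⁻¹ * (MulAut.conj g).toMonoidHom u * g = u := by
      simp [MulAut.conj_apply, mul_assoc]
    rw [this]
    exact hUT hu
  obtain ⟨n, hn, hng⟩ := exists_mem_mul_mem_normalizer T _ g h1 h2
  rw [normalizer_sylow2 h T] at hng
  have h3 : n * g ∈ Subgroup.normalizer (U : Set G) :=
    le_normalizer_of_card U T hUT hU.card_four (card_sylow2 h T) hng
  rw [Subgroup.mem_normalizer_iff_map_conj_eq] at h3 hn
  apply hne
  calc U = U.map (MulAut.conj (n * g)).toMonoidHom := h3.symm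
    _ = (U.map (MulAut.conj g).toMonoidHom).map (MulAut.conj n).toMonoidHom := by
        rw [Subgroup.map_map]
        congr 1
        ext u
        simp [MulAut.conj_apply, mul_assoc]
    _ = W.map (MulAut.conj n).toMonoidHom := by rw [hmap]
    _ = W := hn

end Cfsg.Agent.Lib.Helper23.G168
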