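import Cfsg.Agent.Lib.Helper23.G168.Klein
import Cfsg.Agent.Lib.Helper23.Order12

namespace Cfsg.Agent.Lib.Helper23.G168

open Cfsg.Agent.Lib.Helper23 Cfsg.Agent.Lib.Helper12 Cfsg.Agent.Lib.Helper06

variable {G : Type*} [Group G] [Finite G] [IsSimpleGroup G]

attribute [local instance] fact2 fact3 fact7

/-- proper subgroups have order at most 24. -/
theorem card_le_of_ne_top (h : Nat.card G = 168) (M : Subgroup G) (hM : M ≠ ⊤) :
    Nat.card ↥M ≤ 24 ∧ Nat.card ↥M ∣ 168 := by
  have hidx := seven_le_index h M hM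
  have hmul := Subgroup.card_mul_index M
  rw [h] at hmul
  refine ⟨by nlinarith, ⟨_, hmul.symm⟩⟩

theorem ne_top_of_card_lt (h : Nat.card G = 168) (K : Subgroup G) (hK : Nat.card ↥K < 168) :
    K ≠ ⊤ := by
  rintro rfl
  rw [Subgroup.card_top, h] at hK
  omega

omit [IsSimpleGroup G] in
/-- a subgroup contained in a strictly larger proper subgroup is not maximal. -/
theorem not_isCoatom_of_le (h : Nat.card G = 168) (M K : Subgroup G) (hMK : M ≤ K)
    (hcard : Nat.card ↥M < Nat.card ↥K) (hK : Nat.card ↥K < 168) : ¬ IsCoatom M := by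
  intro hco
  have hlt : M < K := lt_of_le_of_ne hMK (by
    rintro rfl
    omega)
  have := hco.2 K hlt
  rw [this, Subgroup.card_top, h] at hK
  omega

theorem isCoatom_of_card (h : Nat.card G = 168) (K : Subgroup G) (hK : Nat.card ↥K = 24) :
    IsCoatom K := by
  refine ⟨ne_top_of_card_lt h K (by omega), ?_⟩
  intro L hL
  by_contra hne
  have h1 := (card_le_of_ne_top h L hne).1
  have h2 : Nat.card ↥K < Nat.card ↥L := by
    by_contra hle
    push Not at hle
    have := Subgroup.eq_of_le_of_card_ge hL.le hle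
    exact hL.ne this
  omega

omit [Finite G] [IsSimpleGroup G] in
theorem le_normalizer_of_card_eq_two_mul (K T : Subgroup G) (hKT : K ≤ T) (hpos : 0 < Nat.card ↥K)
    (hT : Nat.card ↥T = 2 * Nat.card ↥K) : T ≤ Subgroup.normalizer (K : Set G) := by
  have hcardK : Nat.card ↥(K.subgroupOf T) = Nat.card ↥K :=
    Nat.card_congr (Subgroup.subgroupOfEquivOfLe hKT).toEquiv
  have hidx : (K.subgroupOf T).index = 2 := by
    have := Subgroup.card_mul_index (K.subgroupOf T)
    rw [hcardK, hT] at this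
    nlinarith
  have hn : (K.subgroupOf T).Normal := Subgroup.normal_of_index_eq_two hidx
  exact Subgroup.le_normalizer_of_normal_subgroupOf hKT

/-- a 2-subgroup lies in a subgroup of order 24. -/
theorem exists_card24_of_two_group (h : Nat.card G = 168) (M : Subgroup G) (hM : IsPGroup 2 ↥M) :
    ∃ K : Subgroup G, Nat.card ↥K = 24 ∧ M ≤ K := by
  obtain ⟨T, hT⟩ := hM.exists_le_sylow
  have h2 := card_klein_in_sylow2 h T
  have : Nonempty {U : Subgroup G // U ≤ (T : Subgroup G) ∧ IsKleinFour ↥U} :=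
    (Nat.card_pos_iff.mp (by rw [h2]; norm_num)).1
  obtain ⟨U, hUT, hU⟩ := this
  exact ⟨_, card_normalizer_klein h U hU,
    hT.trans (le_normalizer_of_card U T hUT hU.card_four (card_sylow2 h T))⟩

theorem not_isCoatom_of_two_group (h : Nat.card G = 168) (M : Subgroup G) (hM : IsPGroup 2 ↥M) :
    ¬ IsCoatom M := by
  obtain ⟨K, hK, hMK⟩ := exists_card24_of_two_group h M hM
  apply not_isCoatom_of_le h M K hMK ?_ (by omega)
  rw [hK]
  obtain ⟨T, hT⟩ := hM.exists_le_sylow
  have := Subgroup.card_le_of_le hT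
  rw [card_sylow2 h] at this
  omega

theorem not_isCoatom_of_card_three (h : Nat.card G = 168) (M : Subgroup G)
    (hM : Nat.card ↥M = 3) : ¬ IsCoatom M := by
  have hpg : IsPGroup 3 ↥M := IsPGroup.of_card (n := 1) (by rw [hM]; norm_num)
  obtain ⟨P, hP⟩ := hpg.exists_le_sylow
  have hMP : M = (P : Subgroup G) :=
    Subgroup.eq_of_le_of_card_ge hP (by rw [card_sylow3 h, hM])
  apply not_isCoatom_of_le h M (Subgroup.normalizer ((P : Subgroup G) : Set G))
  · rw [hMP]; exact Subgroup.le_normalizer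
  · rw [card_normalizer3 h, hM]; norm_num
  · rw [card_normalizer3 h]; norm_num

theorem not_isCoatom_of_card_seven (h : Nat.card G = 168) (M : Subgroup G)
    (hM : Nat.card ↥M = 7) : ¬ IsCoatom M := by
  have hpg : IsPGroup 7 ↥M := IsPGroup.of_card (n := 1) (by rw [hM]; norm_num)
  obtain ⟨P, hP⟩ := hpg.exists_le_sylow
  have hMP : M = (P : Subgroup G) :=
    Subgroup.eq_of_le_of_card_ge hP (by rw [card_sylow7 h, hM])
  apply not_isCoatom_of_le h M (Subgroup.normalizer ((P : Subgroup G) : Set G))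
  · rw [hMP]; exact Subgroup.le_normalizer
  · rw [card_normalizer7 h, hM]; norm_num
  · rw [card_normalizer7 h]; norm_num

omit [Finite G] [IsSimpleGroup G] in
/-- Cauchy's theorem inside a subgroup. -/
theorem exists_mem_orderOf_eq (M : Subgroup G) [Finite ↥M] (p : ℕ) [Fact p.Prime]
    (hp : p ∣ Nat.card ↥M) : ∃ g ∈ M, orderOf g = p := by
  obtain ⟨⟨g, hgM⟩, hg⟩ := exists_prime_orderOf_dvd_card' (G := ↥M) p hp
  rw [Subgroup.orderOf_mk] at hg
  exact ⟨g, hgM, hg⟩

theorem false_of_card_fourteen (h : Nat.card G = 168) (M : Subgroup G)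
    (hM : Nat.card ↥M = 14) : False := by
  obtain ⟨s, hsM, hs⟩ := exists_mem_orderOf_eq M 7 (by rw [hM]; norm_num)
  obtain ⟨t, htM, ht⟩ := exists_mem_orderOf_eq M 2 (by rw [hM]; norm_num)
  obtain ⟨P, hP⟩ := exists_sylow7_eq_zpowers h s hs
  have hle : M ≤ Subgroup.normalizer ((P : Subgroup G) : Set G) := by
    apply le_normalizer_of_card_eq_two_mul
    · rw [hP, Subgroup.zpowers_le]; exact hsM
    · rw [card_sylow7 h]; norm_num
    · rw [card_sylow7 h, hM]
  have := orderOf_dvd_natCard (⟨t, hle htM⟩ : ↥(Subgroup.normalizer ((P : Subgroup G) : Set G)))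
  rw [Subgroup.orderOf_mk, card_normalizer7 h P, ht] at this
  omega


omit [Finite G] [IsSimpleGroup G] in
theorem mem_map_conj_iff' (K : Subgroup G) (g s : G) :
    s ∈ K.map (MulAut.conj g).toMonoidHom ↔ g⁻¹ * s * g ∈ K := by
  constructor
  · rintro ⟨k, hk, rfl⟩
    have : g⁻¹ * (MulAut.conj g).toMonoidHom k * g = k := by
      simp [MulAut.conj_apply, mul_assoc]
    rw [this]; exact hk
  · intro hs
    refine ⟨g⁻¹ * s * g, hs, ?_⟩
    simp [MulAut.conj_apply, mul_assoc]

omit [Finite G] [IsSimpleGroup G] in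
theorem normalizer_smul_sylow {p : ℕ} [Fact p.Prime] (P : Sylow p G) (g : G) :
    Subgroup.normalizer (((g • P : Sylow p G) : Subgroup G) : Set G) =
      (Subgroup.normalizer ((P : Subgroup G) : Set G)).map (MulAut.conj g).toMonoidHom := by
  ext s
  rw [mem_map_conj_iff']
  constructor
  · intro hs
    have hs' : s • (g • P) = g • P := Sylow.smul_eq_iff_mem_normalizer.mpr hs
    have : (g⁻¹ * s * g) • P = P := by rw [mul_smul, mul_smul, hs', inv_smul_smul]
    exact Sylow.smul_eq_iff_mem_normalizer.mp this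
  · intro hs
    have hs' : (g⁻¹ * s * g) • P = P := Sylow.smul_eq_iff_mem_normalizer.mpr hs
    have : s • (g • P) = g • P := by
      rw [mul_smul, mul_smul] at hs'
      have := congrArg (fun R => g • R) hs'
      simpa using this
    exact Sylow.smul_eq_iff_mem_normalizer.mp this

theorem perm4_facts : ∃ σ τ : Equiv.Perm (Fin 4), orderOf σ = 3 ∧ orderOf τ = 2 ∧
    τ * σ * τ⁻¹ = σ⁻¹ := by
  refine ⟨Equiv.swap 0 1 * Equiv.swap 1 2, Equiv.swap 0 1, ?_, ?_, ?_⟩
  · exact orderOf_eq_prime (by decide) (by decide)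
  · exact orderOf_eq_prime (by decide) (by decide)
  · decide

theorem normalizer3_le_of_klein (h : Nat.card G = 168) :
    ∃ (Q' : Sylow 3 G) (K : Subgroup G), Nat.card ↥K = 24 ∧
      Subgroup.normalizer ((Q' : Subgroup G) : Set G) ≤ K := by
  obtain ⟨T⟩ : Nonempty (Sylow 2 G) := inferInstance
  have h2 := card_klein_in_sylow2 h T
  have : Nonempty {U : Subgroup G // U ≤ (T : Subgroup G) ∧ IsKleinFour ↥U} :=
    (Nat.card_pos_iff.mp (by rw [h2]; norm_num)).1
  obtain ⟨U, hUT, hU⟩ := this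
  have hN := card_normalizer_klein h U hU
  obtain ⟨e⟩ := normalizer_klein_equiv h U hU
  obtain ⟨σ, τ, hσ, hτ, hrel⟩ := perm4_facts
  have hx' : orderOf ((e.symm σ : ↥(Subgroup.normalizer (U : Set G))) : G) = 3 := by
    rw [Subgroup.orderOf_coe, MulEquiv.orderOf_eq, hσ]
  have ht' : orderOf ((e.symm τ : ↥(Subgroup.normalizer (U : Set G))) : G) = 2 := by
    rw [Subgroup.orderOf_coe, MulEquiv.orderOf_eq, hτ]
  have hrel' : ((e.symm τ : ↥(Subgroup.normalizer (U : Set G))) : G) *
      ((e.symm σ : ↥(Subgroup.normalizer (U : Set G))) : G) *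
      ((e.symm τ : ↥(Subgroup.normalizer (U : Set G))) : G)⁻¹ =
      ((e.symm σ : ↥(Subgroup.normalizer (U : Set G))) : G)⁻¹ := by
    have : e.symm τ * e.symm σ * (e.symm τ)⁻¹ = (e.symm σ)⁻¹ := by
      rw [← map_inv, ← map_mul, ← map_mul, hrel, map_inv]
    have := congrArg Subtype.val this
    simpa using this
  generalize hxdef : ((e.symm σ : ↥(Subgroup.normalizer (U : Set G))) : G) = x' at *
  generalize htdef : ((e.symm τ : ↥(Subgroup.normalizer (U : Set G))) : G) = t' at *
  have hx'N : x' ∈ Subgroup.normalizer (U : Set G) := by rw [← hxdef]; exact (e.symm σ).2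
  have ht'N : t' ∈ Subgroup.normalizer (U : Set G) := by rw [← htdef]; exact (e.symm τ).2
  obtain ⟨Q', hQ'⟩ := exists_sylow3_eq_zpowers h x' hx'
  have hx'NQ : x' ∈ Subgroup.normalizer ((Q' : Subgroup G) : Set G) := by
    apply Subgroup.le_normalizer
    rw [hQ']; exact Subgroup.mem_zpowers x'
  have ht'NQ : t' ∈ Subgroup.normalizer ((Q' : Subgroup G) : Set G) := by
    rw [hQ']
    apply mem_normalizer_zpowers_of_conj_mem t' x' (by rw [hx']; norm_num)
    rw [hrel']
    exact Subgroup.inv_mem _ (Subgroup.mem_zpowers x')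
  have h3 : 3 ∣ Nat.card ↥(Subgroup.normalizer ((Q' : Subgroup G) : Set G) ⊓
      Subgroup.normalizer (U : Set G)) := by
    have := Subgroup.orderOf_dvd_natCard (Subgroup.normalizer ((Q' : Subgroup G) : Set G) ⊓
      Subgroup.normalizer (U : Set G)) (Subgroup.mem_inf.mpr ⟨hx'NQ, hx'N⟩)
    rwa [hx'] at this
  have h2' : 2 ∣ Nat.card ↥(Subgroup.normalizer ((Q' : Subgroup G) : Set G) ⊓
      Subgroup.normalizer (U : Set G)) := by
    have := Subgroup.orderOf_dvd_natCard (Subgroup.normalizer ((Q' : Subgroup G) : Set G) ⊓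
      Subgroup.normalizer (U : Set G)) (Subgroup.mem_inf.mpr ⟨ht'NQ, ht'N⟩)
    rwa [ht'] at this
  have hH6 : 6 ≤ Nat.card ↥(Subgroup.normalizer ((Q' : Subgroup G) : Set G) ⊓
      Subgroup.normalizer (U : Set G)) := by
    have : 2 * 3 ∣ Nat.card ↥(Subgroup.normalizer ((Q' : Subgroup G) : Set G) ⊓
        Subgroup.normalizer (U : Set G)) :=
      Nat.Coprime.mul_dvd_of_dvd_of_dvd (by norm_num) h2' h3
    exact Nat.le_of_dvd Nat.card_pos this
  have hHeq : Subgroup.normalizer ((Q' : Subgroup G) : Set G) ⊓ Subgroup.normalizer (U : Set G) =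
      Subgroup.normalizer ((Q' : Subgroup G) : Set G) :=
    Subgroup.eq_of_le_of_card_ge inf_le_left (by rw [card_normalizer3 h]; exact hH6)
  refine ⟨Q', _, hN, ?_⟩
  rw [← hHeq]
  exact inf_le_right

theorem exists_card24_normalizer3 (h : Nat.card G = 168) (Q : Sylow 3 G) :
    ∃ K : Subgroup G, Nat.card ↥K = 24 ∧ Subgroup.normalizer ((Q : Subgroup G) : Set G) ≤ K := by
  obtain ⟨Q', K, hK, hle⟩ := normalizer3_le_of_klein h
  obtain ⟨g, rfl⟩ := MulAction.exists_smul_eq G Q' Q
  refine ⟨K.map (MulAut.conj g).toMonoidHom,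
    by rw [Subgroup.card_map_of_injective (MulAut.conj g).injective, hK], ?_⟩
  rw [normalizer_smul_sylow]
  exact Subgroup.map_mono hle

theorem not_isCoatom_of_card_six (h : Nat.card G = 168) (M : Subgroup G)
    (hM : Nat.card ↥M = 6) : ¬ IsCoatom M := by
  obtain ⟨x, hxM, hx⟩ := exists_mem_orderOf_eq M 3 (by rw [hM]; norm_num)
  obtain ⟨Q, hQ⟩ := exists_sylow3_eq_zpowers h x hx
  have hle : M ≤ Subgroup.normalizer ((Q : Subgroup G) : Set G) := by
    apply le_normalizer_of_card_eq_two_mul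
    · rw [hQ, Subgroup.zpowers_le]; exact hxM
    · rw [card_sylow3 h]; norm_num
    · rw [card_sylow3 h, hM]
  obtain ⟨K, hK, hNK⟩ := exists_card24_normalizer3 h Q
  exact not_isCoatom_of_le h M K (hle.trans hNK) (by rw [hM, hK]; norm_num)
    (by rw [hK]; norm_num)


omit [Finite G] [IsSimpleGroup G] in
theorem isKleinFour_or_exists_orderOf_four (V : Subgroup G) (hV : Nat.card ↥V = 4) :
    IsKleinFour ↥V ∨ ∃ u ∈ V, orderOf u = 4 := by
  by_cases hex : ∃ u ∈ V, orderOf u = 4
  · exact Or.inr hex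
  left
  push Not at hex
  have hfin : Finite ↥V := Nat.finite_of_card_ne_zero (by rw [hV]; norm_num)
  refine ⟨hV, ?_⟩
  have hsq : ∀ x : ↥V, x ^ 2 = 1 := by
    intro x
    have h1 := orderOf_dvd_natCard x
    rw [hV] at h1
    have h2 : orderOf x ≠ 4 := by
      rw [← Subgroup.orderOf_coe]
      exact hex x x.2
    have hle := Nat.le_of_dvd (by norm_num) h1
    have h3 : orderOf x ∣ 2 := by
      generalize orderOf x = n at *
      interval_cases n <;> omega
    exact orderOf_dvd_iff_pow_eq_one.mp h3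
  have hdvd : Monoid.exponent ↥V ∣ 2 := Monoid.exponent_dvd_of_forall_pow_eq_one hsq
  rcases (Nat.dvd_prime Nat.prime_two).mp hdvd with h1 | h1
  · exfalso
    rw [Monoid.exp_eq_one_iff] at h1
    have : Nat.card ↥V = 1 := Nat.card_eq_one_iff_unique.mpr ⟨h1, ⟨1⟩⟩
    omega
  · exact h1

omit [Finite G] [IsSimpleGroup G] in
/-- an element of odd order cannot invert an element that is not an involution. -/
theorem eq_inv_of_conj_eq_inv_of_odd (c x : G) (hc : c * x * c⁻¹ = x⁻¹) (m : ℕ)
    (hodd : orderOf c = 2 * m + 1) : x = x⁻¹ := by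
  have hc2 : Commute (c ^ 2) x := by
    have h1 : c * x = x⁻¹ * c := by
      calc c * x = (c * x * c⁻¹) * c := by group
        _ = x⁻¹ * c := by rw [hc]
    have h2 : c * x⁻¹ = x * c := by
      calc c * x⁻¹ = (c * x * c⁻¹)⁻¹ * c := by group
        _ = x * c := by rw [hc, inv_inv]
    show c ^ 2 * x = x * c ^ 2
    calc c ^ 2 * x = c * (c * x) := by rw [pow_two, mul_assoc]
      _ = c * (x⁻¹ * c) := by rw [h1]
      _ = (c * x⁻¹) * c := by rw [mul_assoc]
      _ = (x * c) * c := by rw [h2]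
      _ = x * c ^ 2 := by rw [pow_two, mul_assoc]
  have hcm : c = (c ^ 2) ^ (m + 1) := by
    rw [← pow_mul]
    have : 2 * (m + 1) = orderOf c + 1 := by omega
    rw [this, pow_succ, pow_orderOf_eq_one, one_mul]
  have hcx : Commute c x := by
    rw [hcm]; exact hc2.pow_left _
  calc x = c * x * c⁻¹ := by rw [hcx.eq]; group
    _ = x⁻¹ := hc

theorem false_of_conj_mem_zpowers (h : Nat.card G = 168) (x u : G) (hx : orderOf x = 3)
    (hu : orderOf u = 4) (hc : x * u * x⁻¹ ∈ Subgroup.zpowers u) : False := by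
  classical
  rw [mem_zpowers_iff_mem_range_orderOf, hu] at hc
  simp only [Finset.mem_image, Finset.mem_range] at hc
  obtain ⟨k, hk, hk'⟩ := hc
  have ho : orderOf (x * u * x⁻¹) = 4 := by
    rw [← hu]
    exact ((SemiconjBy.conj_mk x u).orderOf_eq x).symm
  have hu4 : u ^ 4 = 1 := by rw [← hu]; exact pow_orderOf_eq_one u
  interval_cases k
  · rw [pow_zero] at hk'
    rw [← hk', orderOf_one] at ho
    omega
  · rw [pow_one] at hk'
    have hcomm : x * u = u * x := by
      calc x * u = (x * u * x⁻¹) * x := by group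
        _ = u * x := by rw [← hk']
    have hmul := orderOf_mul_of_commute_coprime x u hcomm (by rw [hx, hu]; norm_num)
    rw [hx, hu] at hmul
    rcases orderOf_mem h (x * u) with h1 | h1 | h1 | h1 | h1 <;> omega
  · have : orderOf (u ^ 2) ∣ 2 := by
      apply orderOf_dvd_of_pow_eq_one
      rw [← pow_mul]; exact hu4
    rw [hk', ho] at this
    omega
  · have hinv : x * u * x⁻¹ = u⁻¹ := by
      rw [← hk']
      apply eq_inv_of_mul_eq_one_left
      rw [← pow_succ]; exact hu4
    have := eq_inv_of_conj_eq_inv_of_odd x u hinv 1 (by rw [hx])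
    have hu2 : u ^ 2 = 1 := by
      rw [pow_two]
      nth_rewrite 1 [this]
      exact inv_mul_cancel u
    have := orderOf_dvd_of_pow_eq_one hu2
    rw [hu] at this
    omega

theorem not_isCoatom_of_card_twelve (h : Nat.card G = 168) (M : Subgroup G)
    (hM : Nat.card ↥M = 12) : ¬ IsCoatom M := by
  rcases normal_sylow_of_card_twelve (H := ↥M) hM with h3 | h2
  · exfalso
    obtain ⟨Q⟩ : Nonempty (Sylow 3 ↥M) := inferInstance
    have hn := h3 Q
    have hle := le_normalizer_map_subtype M (Q : Subgroup ↥M)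
    have hcard : Nat.card ↥((Q : Subgroup ↥M).map M.subtype) = 3 := by
      rw [Subgroup.card_map_of_injective M.subtype_injective]
      simpa using sylow_card_of_card_eq 3 1 4 (by rw [hM]; norm_num) (by norm_num) Q
    have hpg : IsPGroup 3 ↥((Q : Subgroup ↥M).map M.subtype) :=
      IsPGroup.of_card (n := 1) (by rw [hcard]; norm_num)
    obtain ⟨P, hP⟩ := hpg.exists_le_sylow
    have hEq : (Q : Subgroup ↥M).map M.subtype = (P : Subgroup G) :=
      Subgroup.eq_of_le_of_card_ge hP (by rw [card_sylow3 h, hcard])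
    rw [hEq] at hle
    have := Subgroup.card_le_of_le hle
    rw [hM, card_normalizer3 h] at this
    omega
  · obtain ⟨V⟩ : Nonempty (Sylow 2 ↥M) := inferInstance
    have hn := h2 V
    have hle := le_normalizer_map_subtype M (V : Subgroup ↥M)
    have hcard : Nat.card ↥((V : Subgroup ↥M).map M.subtype) = 4 := by
      rw [Subgroup.card_map_of_injective M.subtype_injective]
      simpa using sylow_card_of_card_eq 2 2 3 (by rw [hM]; norm_num) (by norm_num) V
    rcases isKleinFour_or_exists_orderOf_four _ hcard with hK | ⟨u, huV, hu⟩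
    · exact not_isCoatom_of_le h M _ hle (by rw [hM, card_normalizer_klein h _ hK]; norm_num)
        (by rw [card_normalizer_klein h _ hK]; norm_num)
    · exfalso
      have hVu : (V : Subgroup ↥M).map M.subtype = Subgroup.zpowers u :=
        (Subgroup.eq_of_le_of_card_ge (Subgroup.zpowers_le.mpr huV)
          (by rw [hcard, Nat.card_zpowers, hu])).symm
      obtain ⟨x, hxM, hx⟩ := exists_mem_orderOf_eq M 3 (by rw [hM]; norm_num)
      have hxN := hle hxM
      rw [hVu] at hxN
      have := (Subgroup.mem_normalizer_iff.mp hxN u).mp (Subgroup.mem_zpowers u)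
      exact false_of_conj_mem_zpowers h x u hx hu this

/-- part 1: the maximal subgroups have order 24 (and are symmetric groups) or order 21. -/
theorem coatom_cases (h : Nat.card G = 168) (M : Subgroup G) (hM : IsCoatom M) :
    Nonempty (↥M ≃* Equiv.Perm (Fin 4)) ∨ (Nat.card ↥M = 21 ∧ ¬ IsMulCommutative ↥M) := by
  obtain ⟨hle, hdvd⟩ := card_le_of_ne_top h M hM.1
  have hpos : 0 < Nat.card ↥M := Nat.card_pos
  have hcases : Nat.card ↥M = 1 ∨ Nat.card ↥M = 2 ∨ Nat.card ↥M = 4 ∨ Nat.card ↥M = 8 ∨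
      Nat.card ↥M = 3 ∨ Nat.card ↥M = 7 ∨ Nat.card ↥M = 6 ∨ Nat.card ↥M = 12 ∨
      Nat.card ↥M = 14 ∨ Nat.card ↥M = 21 ∨ Nat.card ↥M = 24 := by
    generalize Nat.card ↥M = n at *
    interval_cases n <;> omega
  rcases hcases with h1 | h1 | h1 | h1 | h1 | h1 | h1 | h1 | h1 | h1 | h1
  · exact absurd hM (not_isCoatom_of_two_group h M
      (IsPGroup.of_card (n := 0) (by rw [h1]; norm_num)))
  · exact absurd hM (not_isCoatom_of_two_group h M
      (IsPGroup.of_card (n := 1) (by rw [h1]; norm_num)))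
  · exact absurd hM (not_isCoatom_of_two_group h M
      (IsPGroup.of_card (n := 2) (by rw [h1]; norm_num)))
  · exact absurd hM (not_isCoatom_of_two_group h M
      (IsPGroup.of_card (n := 3) (by rw [h1]; norm_num)))
  · exact absurd hM (not_isCoatom_of_card_three h M h1)
  · exact absurd hM (not_isCoatom_of_card_seven h M h1)
  · exact absurd hM (not_isCoatom_of_card_six h M h1)
  · exact absurd hM (not_isCoatom_of_card_twelve h M h1)
  · exact (false_of_card_fourteen h M h1).elim
  · right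
    refine ⟨h1, ?_⟩
    intro hcomm
    obtain ⟨s, hsM, hs⟩ := exists_mem_orderOf_eq M 7 (by rw [h1]; norm_num)
    obtain ⟨x, hxM, hx⟩ := exists_mem_orderOf_eq M 3 (by rw [h1]; norm_num)
    have hsx : s * x = x * s := by
      have := hcomm.is_comm.comm (⟨s, hsM⟩ : ↥M) ⟨x, hxM⟩
      exact congrArg Subtype.val this
    have hmul := orderOf_mul_of_commute_coprime s x hsx (by rw [hs, hx]; norm_num)
    rw [hs, hx] at hmul
    rcases orderOf_mem h (s * x) with h2 | h2 | h2 | h2 | h2 <;> omega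
  · left
    apply Cfsg.Agent.S1012.result h1
    intro g hg
    rw [← Subgroup.orderOf_coe] at hg
    rcases orderOf_mem h (g : G) with h2 | h2 | h2 | h2 | h2 <;> omega


/-- part 2: a subgroup of order 21 is the normalizer of a Sylow 7-subgroup. -/
theorem eq_normalizer_of_card_21 (h : Nat.card G = 168) (M : Subgroup G)
    (hM : Nat.card ↥M = 21) :
    ∃ P : Sylow 7 G, M = Subgroup.normalizer ((P : Subgroup G) : Set G) := by
  have hd := card_sylow_dvd_of_card_eq (G := ↥M) 7 1 3 (by rw [hM]; norm_num) (by norm_num)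
  have hmod : Nat.card (Sylow 7 ↥M) % 7 = 1 := card_sylow_modEq_one 7 ↥M
  have hn1 : Nat.card (Sylow 7 ↥M) = 1 := by
    have hle := Nat.le_of_dvd (by norm_num) hd
    generalize Nat.card (Sylow 7 ↥M) = n at *
    interval_cases n <;> omega
  obtain ⟨P''⟩ : Nonempty (Sylow 7 ↥M) := inferInstance
  have hn := sylow_normal_of_card_eq_one 7 hn1 P''
  have hle := le_normalizer_map_subtype M (P'' : Subgroup ↥M)
  have hcard : Nat.card ↥((P'' : Subgroup ↥M).map M.subtype) = 7 := by
    rw [Subgroup.card_map_of_injective M.subtype_injective]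
    simpa using sylow_card_of_card_eq 7 1 3 (by rw [hM]; norm_num) (by norm_num) P''
  have hpg : IsPGroup 7 ↥((P'' : Subgroup ↥M).map M.subtype) :=
    IsPGroup.of_card (n := 1) (by rw [hcard]; norm_num)
  obtain ⟨P, hP⟩ := hpg.exists_le_sylow
  have hEq : (P'' : Subgroup ↥M).map M.subtype = (P : Subgroup G) :=
    Subgroup.eq_of_le_of_card_ge hP (by rw [card_sylow7 h, hcard])
  rw [hEq] at hle
  exact ⟨P, Subgroup.eq_of_le_of_card_ge hle (by rw [card_normalizer7 h, hM])⟩

theorem conj_of_card_21 (h : Nat.card G = 168) (M M' : Subgroup G) (hM : Nat.card ↥M = 21)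
    (hM' : Nat.card ↥M' = 21) : ∃ g : G, M' = M.map (MulAut.conj g).toMonoidHom := by
  obtain ⟨P, rfl⟩ := eq_normalizer_of_card_21 h M hM
  obtain ⟨P', rfl⟩ := eq_normalizer_of_card_21 h M' hM'
  obtain ⟨g, rfl⟩ := MulAction.exists_smul_eq G P P'
  exact ⟨g, normalizer_smul_sylow P g⟩

omit [Finite G] [IsSimpleGroup G] in
theorem normalizer_map_conj (U : Subgroup G) (g : G) :
    Subgroup.normalizer ((U.map (MulAut.conj g).toMonoidHom : Subgroup G) : Set G) =
      (Subgroup.normalizer (U : Set G)).map (MulAut.conj g).toMonoidHom := by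
  ext s
  rw [mem_map_conj_iff', Subgroup.mem_normalizer_iff, Subgroup.mem_normalizer_iff]
  constructor
  · intro hs k
    have := hs (g * k * g⁻¹)
    rw [mem_map_conj_iff', mem_map_conj_iff'] at this
    have e1 : g⁻¹ * (g * k * g⁻¹) * g = k := by group
    have e2 : g⁻¹ * (s * (g * k * g⁻¹) * s⁻¹) * g = g⁻¹ * s * g * k * (g⁻¹ * s * g)⁻¹ := by group
    rw [e1, e2] at this
    exact this
  · intro hs k
    rw [mem_map_conj_iff', mem_map_conj_iff']
    have := hs (g⁻¹ * k * g)
    have e2 : g⁻¹ * s * g * (g⁻¹ * k * g) * (g⁻¹ * s * g)⁻¹ = g⁻¹ * (s * k * s⁻¹) * g := by group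
    rw [e2] at this
    exact this

theorem isKleinFour_of_mulEquiv {A B : Type*} [Group A] [Group B] (e : A ≃* B)
    (hA : IsKleinFour A) : IsKleinFour B :=
  ⟨by rw [← Nat.card_congr e.toEquiv]; exact hA.card_four,
    by rw [← Monoid.exponent_eq_of_mulEquiv e]; exact hA.exponent_two⟩

omit [Finite G] [IsSimpleGroup G] in
theorem isKleinFour_map_conj (U : Subgroup G) (hU : IsKleinFour ↥U) (g : G) :
    IsKleinFour ↥(U.map (MulAut.conj g).toMonoidHom) :=
  isKleinFour_of_mulEquiv (U.equivMapOfInjective _ (MulAut.conj g).injective) hU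

/-- the central involution of a Sylow 2-subgroup lies in each of its Klein four-subgroups. -/
theorem central_mem_klein (h : Nat.card G = 168) (T : Sylow 2 G) (U : Subgroup G)
    (hU : IsKleinFour ↥U) (hUT : U ≤ (T : Subgroup G)) (z : G) (hzT : z ∈ (T : Subgroup G))
    (hzc : ∀ t ∈ (T : Subgroup G), t * z = z * t) : z ∈ U := by
  obtain ⟨a, haU, hnc⟩ := exists_noncentral_of_klein h T U hU hUT
  rw [klein_eq_inf_centralizer h T U hU hUT a haU hnc]
  exact ⟨hzT, Subgroup.mem_centralizer_singleton_iff.mpr (hzc a (hUT haU)).symm⟩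

/-- a Klein four-subgroup is determined by its normalizer. -/
theorem klein_eq_of_normalizer_eq (h : Nat.card G = 168) (U U' : Subgroup G)
    (hU : IsKleinFour ↥U) (hU' : IsKleinFour ↥U')
    (hN : Subgroup.normalizer (U : Set G) = Subgroup.normalizer (U' : Set G)) : U = U' := by
  by_contra hne
  have hpg : IsPGroup 2 ↥U := IsPGroup.of_card (n := 2) (by rw [hU.card_four]; norm_num)
  have hpg' : IsPGroup 2 ↥U' := IsPGroup.of_card (n := 2) (by rw [hU'.card_four]; norm_num)
  obtain ⟨T, hUT⟩ := hpg.exists_le_sylow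
  have hTN : (T : Subgroup G) ≤ Subgroup.normalizer (U : Set G) :=
    le_normalizer_of_card U T hUT hU.card_four (card_sylow2 h T)
  have hTN' : (T : Subgroup G) ≤ Subgroup.normalizer (U' : Set G) := hN ▸ hTN
  have hsup : IsPGroup 2 ↥((T : Subgroup G) ⊔ U') := IsPGroup.to_sup_of_normal_right' T.2 hpg' hTN'
  have hsupeq : (T : Subgroup G) ⊔ U' = T := T.is_maximal' hsup le_sup_left
  have hU'T : U' ≤ (T : Subgroup G) := by
    rw [← hsupeq]; exact le_sup_right
  obtain ⟨z, hzT, hz2, hzc⟩ := exists_central_involution h T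
  have hzU := central_mem_klein h T U hU hUT z hzT hzc
  have hzU' := central_mem_klein h T U' hU' hU'T z hzT hzc
  have hz1 : z ≠ 1 := ne_one_of_orderOf_two hz2
  -- the intersection has order 2
  have hcardI : Nat.card ↥(U ⊓ U') = 2 := by
    have hd : Nat.card ↥(U ⊓ U') ∣ 4 := by
      rw [← hU.card_four]; exact Subgroup.card_dvd_of_le inf_le_left
    have hne4 : Nat.card ↥(U ⊓ U') ≠ 4 := by
      intro h4
      have e1 : U ⊓ U' = U := Subgroup.eq_of_le_of_card_ge inf_le_left (by rw [h4, hU.card_four])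
      have e2 : U ⊓ U' = U' :=
        Subgroup.eq_of_le_of_card_ge inf_le_right (by rw [h4, hU'.card_four])
      exact hne (e1.symm.trans e2)
    have h2d : 2 ∣ Nat.card ↥(U ⊓ U') := by
      have := Subgroup.orderOf_dvd_natCard (U ⊓ U') (Subgroup.mem_inf.mpr ⟨hzU, hzU'⟩)
      rwa [hz2] at this
    have hle := Nat.le_of_dvd (by norm_num) hd
    generalize Nat.card ↥(U ⊓ U') = n at *
    interval_cases n <;> omega
  have hIz : U ⊓ U' = Subgroup.zpowers z :=
    (Subgroup.eq_of_le_of_card_ge (Subgroup.zpowers_le.mpr (Subgroup.mem_inf.mpr ⟨hzU, hzU'⟩))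
      (by rw [hcardI, Nat.card_zpowers, hz2])).symm
  -- the normalizer centralizes z
  have hNle : Subgroup.normalizer (U : Set G) ≤ (T : Subgroup G) := by
    intro n hn
    have hn' : n ∈ Subgroup.normalizer (U' : Set G) := hN ▸ hn
    have h1 : n * z * n⁻¹ ∈ U := (Subgroup.mem_normalizer_iff.mp hn z).mp hzU
    have h2 : n * z * n⁻¹ ∈ U' := (Subgroup.mem_normalizer_iff.mp hn' z).mp hzU'
    have h3 : n * z * n⁻¹ ∈ Subgroup.zpowers z := by
      rw [← hIz]; exact Subgroup.mem_inf.mpr ⟨h1, h2⟩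
    classical
    rw [mem_zpowers_iff_mem_range_orderOf, hz2] at h3
    simp only [Finset.mem_image, Finset.mem_range] at h3
    obtain ⟨k, hk, hk'⟩ := h3
    have hcomm : n * z = z * n := by
      interval_cases k
      · exfalso
        rw [pow_zero] at hk'
        apply hz1
        have : n * z * n⁻¹ = n * 1 * n⁻¹ := by rw [← hk']; group
        exact mul_left_cancel (mul_right_cancel this)
      · rw [pow_one] at hk'
        calc n * z = (n * z * n⁻¹) * n := by group
          _ = z * n := by rw [← hk']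
    rw [← centralizer_eq_sylow2 h T z hzT hz1 hzc]
    exact Subgroup.mem_centralizer_singleton_iff.mpr hcomm
  have := Subgroup.card_le_of_le hNle
  rw [card_normalizer_klein h U hU, card_sylow2 h] at this
  omega


/-- the normal Klein four-subgroup of the symmetric group of degree 4. -/
theorem exists_normal_klein_perm4 :
    ∃ V₀ : Subgroup (Equiv.Perm (Fin 4)), IsKleinFour ↥V₀ ∧ V₀.Normal := by
  have ha : (Equiv.swap (0 : Fin 4) 1 * Equiv.swap 2 3) * (Equiv.swap (0 : Fin 4) 1 * Equiv.swap 2 3)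
      = 1 := by decide
  have hb : (Equiv.swap (0 : Fin 4) 2 * Equiv.swap 1 3) * (Equiv.swap (0 : Fin 4) 2 * Equiv.swap 1 3)
      = 1 := by decide
  have hab : (Equiv.swap (0 : Fin 4) 1 * Equiv.swap 2 3) * (Equiv.swap (0 : Fin 4) 2 * Equiv.swap 1 3)
      = (Equiv.swap (0 : Fin 4) 2 * Equiv.swap 1 3) * (Equiv.swap (0 : Fin 4) 1 * Equiv.swap 2 3) := by
    decide
  refine ⟨fourSub _ _ ha hb hab,
    isKleinFour_fourSub ha hb hab (by decide) (by decide) (by decide), ⟨?_⟩⟩
  intro n hn g
  rw [mem_fourSub] at hn ⊢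
  rcases hn with rfl | rfl | rfl | rfl
  · left; group
  · revert g; decide
  · revert g; decide
  · revert g; decide

omit [Finite G] [IsSimpleGroup G] in
theorem exists_klein_normal_of_equiv (M : Subgroup G) (e : ↥M ≃* Equiv.Perm (Fin 4)) :
    ∃ V : Subgroup G, IsKleinFour ↥V ∧ M ≤ Subgroup.normalizer (V : Set G) := by
  obtain ⟨V₀, hV₀, hn₀⟩ := exists_normal_klein_perm4
  have hn : (V₀.comap e.toMonoidHom).Normal := hn₀.comap _
  refine ⟨(V₀.comap e.toMonoidHom).map M.subtype, ?_, le_normalizer_map_subtype M _⟩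
  have e1 : ↥V₀ ≃* ↥(V₀.map e.symm.toMonoidHom) := e.symm.subgroupMap V₀
  have heq : V₀.map e.symm.toMonoidHom = V₀.comap e.toMonoidHom :=
    Subgroup.map_equiv_eq_comap_symm' e.symm V₀
  have e2 : ↥(V₀.comap e.toMonoidHom) ≃* ↥((V₀.comap e.toMonoidHom).map M.subtype) :=
    (V₀.comap e.toMonoidHom).equivMapOfInjective _ M.subtype_injective
  exact isKleinFour_of_mulEquiv ((e1.trans (MulEquiv.subgroupCongr heq)).trans e2) hV₀

/-- part 3. -/
theorem exists_two_classes (h : Nat.card G = 168) :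
    ∃ M₁ M₂ : Subgroup G, IsCoatom M₁ ∧ IsCoatom M₂ ∧ Nonempty (↥M₁ ≃* Equiv.Perm (Fin 4)) ∧
      Nonempty (↥M₂ ≃* Equiv.Perm (Fin 4)) ∧
      (∀ g : G, M₂ ≠ M₁.map (MulAut.conj g).toMonoidHom) ∧
      ∀ M : Subgroup G, IsCoatom M → Nonempty (↥M ≃* Equiv.Perm (Fin 4)) →
        ∃ g : G, M = M₁.map (MulAut.conj g).toMonoidHom ∨
          M = M₂.map (MulAut.conj g).toMonoidHom := by
  obtain ⟨T⟩ : Nonempty (Sylow 2 G) := inferInstance
  obtain ⟨⟨U₁, hU₁T, hU₁⟩, ⟨U₂, hU₂T, hU₂⟩, hne, huniv⟩ :=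
    Nat.card_eq_two_iff.mp (card_klein_in_sylow2 h T)
  have hne' : U₁ ≠ U₂ := fun e => hne (Subtype.ext e)
  refine ⟨Subgroup.normalizer (U₁ : Set G), Subgroup.normalizer (U₂ : Set G),
    isCoatom_of_card h _ (card_normalizer_klein h U₁ hU₁),
    isCoatom_of_card h _ (card_normalizer_klein h U₂ hU₂),
    normalizer_klein_equiv h U₁ hU₁, normalizer_klein_equiv h U₂ hU₂, ?_, ?_⟩
  · intro g heq
    rw [← normalizer_map_conj] at heq
    have hK := isKleinFour_map_conj U₁ hU₁ g
    have := klein_eq_of_normalizer_eq h U₂ _ hU₂ hK heq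
    exact klein_not_conj h T U₁ U₂ hU₁T hU₂T hU₁ hU₂ hne' g this.symm
  · rintro M hM ⟨e⟩
    obtain ⟨V, hV, hMV⟩ := exists_klein_normal_of_equiv M e
    have hM24 : Nat.card ↥M = 24 := by
      rw [Nat.card_congr e.toEquiv, Nat.card_eq_fintype_card, Fintype.card_perm]
      rfl
    have hMeq : M = Subgroup.normalizer (V : Set G) :=
      Subgroup.eq_of_le_of_card_ge hMV (by rw [card_normalizer_klein h V hV, hM24])
    have hpg : IsPGroup 2 ↥V := IsPGroup.of_card (n := 2) (by rw [hV.card_four]; norm_num)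
    obtain ⟨T', hVT'⟩ := hpg.exists_le_sylow
    obtain ⟨c, rfl⟩ := MulAction.exists_smul_eq G T T'
    have hV'T : V.map (MulAut.conj c⁻¹).toMonoidHom ≤ (T : Subgroup G) := by
      rintro _ ⟨v, hv, rfl⟩
      have := hVT' hv
      rw [mem_smul_sylow_iff] at this
      simpa [MulAut.conj_apply] using this
    have hV' := isKleinFour_map_conj V hV c⁻¹
    have hmem : (⟨V.map (MulAut.conj c⁻¹).toMonoidHom, hV'T, hV'⟩ :
        {U : Subgroup G // U ≤ (T : Subgroup G) ∧ IsKleinFour ↥U}) ∈ Set.univ := trivial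
    rw [← huniv] at hmem
    have hVV' : V = (V.map (MulAut.conj c⁻¹).toMonoidHom).map (MulAut.conj c).toMonoidHom := by
      ext v
      rw [mem_map_conj_iff', mem_map_conj_iff']
      have : c⁻¹⁻¹ * (c⁻¹ * v * c) * c⁻¹ = v := by group
      rw [this]
    refine ⟨c, ?_⟩
    rcases hmem with h1 | h1
    · left
      have h1' : V.map (MulAut.conj c⁻¹).toMonoidHom = U₁ := congrArg Subtype.val h1
      rw [hMeq, hVV', normalizer_map_conj, h1']
    · right
      have h1' : V.map (MulAut.conj c⁻¹).toMonoidHom = U₂ := congrArg Subtype.val h1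
      rw [hMeq, hVV', normalizer_map_conj, h1']

end Cfsg.Agent.Lib.Helper23.G168
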